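import Cfsg.Agent.Lib.Steinberg.Split

/-!
# Split (B,N)-pairs: the torus part, transversals of cells inside `U`
-/

set_option autoImplicit false
set_option linter.unusedSectionVars false

namespace Cfsg.Agent.Steinberg

open Cfsg.Agent.BN
open scoped Classical

variable {G : Type*} [Group G] [Fintype G] {P : Cfsg.BNPair G} {p : ℕ} [hp : Fact p.Prime]
  {U : Subgroup G}

theorem Split.conj_torus (h : Split P p U) {n t : G} (hn : n ∈ P.N) (ht : t ∈ P.B ⊓ P.N) :
    n * t * n⁻¹ ∈ P.B ⊓ P.N :=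
  ⟨P.conj_mem n hn t ht, P.N.mul_mem (P.N.mul_mem hn ht.2) (P.N.inv_mem hn)⟩

theorem Split.inv_conj_torus (h : Split P p U) {n t : G} (hn : n ∈ P.N) (ht : t ∈ P.B ⊓ P.N) :
    n⁻¹ * t * n ∈ P.B ⊓ P.N := by
  simpa using h.conj_torus (P.N.inv_mem hn) ht

theorem Split.conj_U (h : Split P p U) {b u : G} (hb : b ∈ P.B) (hu : u ∈ U) :
    b⁻¹ * u * b ∈ U := by
  simpa using h.conj b⁻¹ (inv_mem hb) u hu

/-- An element of `B` of `p`-power order lies in `U`. -/
theorem Split.mem_U (h : Split P p U) {x : G} (hx : x ∈ P.B) {k : ℕ} (hk : orderOf x = p ^ k) :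
    x ∈ U := by
  obtain ⟨u, hu, t, ht, rfl⟩ := h.decomp x hx
  have key : ∀ m : ℕ, ∃ u' ∈ U, (u * t) ^ m = u' * t ^ m := by
    intro m
    induction m with
    | zero => exact ⟨1, U.one_mem, by simp⟩
    | succ m ih =>
      obtain ⟨u', hu', e⟩ := ih
      refine ⟨u' * (t ^ m * u * (t ^ m)⁻¹), mul_mem hu' (h.conj _ (pow_mem ht.1 m) u hu), ?_⟩
      rw [pow_succ, e, pow_succ]
      group
  obtain ⟨u', hu', e⟩ := key (p ^ k)
  rw [← hk, pow_orderOf_eq_one, hk] at e
  have h1 : t ^ p ^ k = 1 := by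
    have e' : t ^ p ^ k = u'⁻¹ := eq_inv_of_mul_eq_one_right e.symm
    exact h.inter_eq_one (e' ▸ inv_mem hu') (pow_mem ht.2 _)
  obtain ⟨j, -, hj⟩ := (Nat.dvd_prime_pow hp.out).1 (orderOf_dvd_of_pow_eq_one h1)
  have h2 : orderOf t ∣ Nat.card ↥(P.B ⊓ P.N) := by
    simpa using orderOf_dvd_natCard (⟨t, ht⟩ : ↥(P.B ⊓ P.N))
  have h3 : j = 0 := by
    by_contra hj0
    exact h.torus ((dvd_pow_self p hj0).trans (hj ▸ h2))
  rw [h3, pow_zero, orderOf_eq_one_iff] at hj
  rwa [hj, mul_one]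

/-- A member of `U` fixing `gB` is conjugated by `g` into `U`. -/
theorem Split.conj_stab (h : Split P p U) {g u : G} (hu : u ∈ U)
    (hfix : u • (g : G ⧸ P.B) = (g : G ⧸ P.B)) : g⁻¹ * u * g ∈ U := by
  have hB : g⁻¹ * u * g ∈ P.B := by
    have := QuotientGroup.eq.1 hfix.symm
    simpa [mul_assoc] using this
  obtain ⟨k, hk⟩ := IsPGroup.iff_orderOf.1 h.pgroup ⟨u, hu⟩
  refine h.mem_U hB (k := k) ?_
  have e : g⁻¹ * u * g = MulAut.conj g⁻¹ u := by simp [MulAut.conj_apply]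
  rw [e, MulEquiv.orderOf_eq]
  simpa using hk

theorem cardC_S_mul (h : Split P p U) {s n : G} (hs : s ∈ P.S) (hn : n ∈ P.N)
    (hl : len P n < len P (s * n)) : cardC P (s * n) = cardC P s * cardC P n := by
  have hni := P.N.inv_mem hn
  have h1 : len P n⁻¹ < len P (n⁻¹ * s) := by
    rw [len_inv P hn, len_mul_S P hs hni, inv_inv]
    exact hl
  have e : cardC P (s * n) = cardC P (n⁻¹ * s) := by
    rw [← cardC_inv P (s * n), mul_inv_rev]
    exact cardC_congr P (eqv_S_inv_right P hs n⁻¹)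
  rw [e, cardC_mul_S P hs hni h1, cardC_inv, mul_comm]

/-- Left ascent: a member of `B ∪ BsB` carrying the cell of `n` to itself lies in `B`. -/
theorem eq_of_smul_sch {s n g : G} (hs : s ∈ P.S) (hn : n ∈ P.N) (hl : len P n < len P (s * n))
    (hg : g ∈ P.B ∨ g ∈ cell P s) {y : G ⧸ P.B} (hy : y ∈ sch P n) (hy' : g • y ∈ sch P n) :
    g ∈ P.B := by
  refine hg.resolve_right fun hgs => ?_
  obtain ⟨x, hx, rfl⟩ := hy
  have h1 : g * x ∈ cell P n := (mk_mem_sch P).1 hy'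
  rcases mul_cell_subset P hs hn hgs hx with h2 | h2
  · have := eqv_of_cell_eq P (P.N.mul_mem (S_mem_N P hs) hn) hn
      ((cell_eq_of_mem P h2).symm.trans (cell_eq_of_mem P h1))
    rw [len_congr P this] at hl
    omega
  · exact absurd h2 (fun _ => by
      obtain ⟨a, ha, b, hb, rfl⟩ := (mem_cell P).1 hgs
      obtain ⟨c, hc, d, hd, rfl⟩ := (mem_cell P).1 hx
      have h3 := mul_mem_cell_of_len_le P hs hn (mul_mem hb hc) hl.le
      have h4 : a * s * b * (c * n * d) = a * (s * (b * c) * n) * d := by group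
      rw [h4] at h1
      have h5 := eqv_of_cell_eq P (P.N.mul_mem (S_mem_N P hs) hn) hn
        ((cell_eq_of_mem P (mul_mem_cell_right P hd (mul_mem_cell_left P ha h3))).symm.trans
          (cell_eq_of_mem P h1))
      rw [len_congr P h5] at hl
      omega)

/-- Left ascent: the cell of `n` is swept out by the members of `U` that `s` conjugates into `U`. -/
theorem exists_transversal (h : Split P p U) {s n : G} (hs : s ∈ P.S) (hn : n ∈ P.N)
    (hl : len P n < len P (s * n)) {y : G ⧸ P.B} (hy : y ∈ sch P n) :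
    ∃ w ∈ U, s * w * s⁻¹ ∈ U ∧ y = w • (n : G ⧸ P.B) := by
  classical
  have hsn := P.N.mul_mem (S_mem_N P hs) hn
  set A : Subgroup U := MulAction.stabilizer U (s : G ⧸ P.B)
  set C : Subgroup U := MulAction.stabilizer U ((s * n : G) : G ⧸ P.B)
  have hA : A.index = cardC P s := by
    rw [MulAction.index_stabilizer, ← Nat.card_coe_set_eq, ← h.sch_eq_orbit (S_mem_N P hs)]
    rfl
  have hC : C.index = cardC P (s * n) := by
    rw [MulAction.index_stabilizer, ← Nat.card_coe_set_eq, ← h.sch_eq_orbit hsn]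
    rfl
  have hCA : C ≤ A := by
    intro u hu
    have hu' : (u : G) • ((s * n : G) : G ⧸ P.B) = ((s * n : G) : G ⧸ P.B) :=
      MulAction.mem_stabilizer_iff.1 hu
    refine MulAction.mem_stabilizer_iff.2 ?_
    show (u : G) • (s : G ⧸ P.B) = (s : G ⧸ P.B)
    have hmem : s⁻¹ * u * s ∈ P.B ∨ s⁻¹ * u * s ∈ cell P s :=
      mul_mem_two P hs (mul_mem_two P hs (inv_mem_two P hs (Or.inr (self_mem_cell P s)))
        (Or.inl (h.le u.2))) (Or.inr (self_mem_cell P s))
    have h1 : (s⁻¹ * u * s) • (n : G ⧸ P.B) = (n : G ⧸ P.B) := by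
      rw [mul_smul, mul_smul, inv_smul_eq_iff]
      exact hu'
    have h2 := eq_of_smul_sch hs hn hl hmem ⟨n, self_mem_cell P n, rfl⟩
      (by rw [h1]; exact ⟨n, self_mem_cell P n, rfl⟩)
    refine (QuotientGroup.eq.2 ?_).symm
    show s⁻¹ * (u * s) ∈ P.B
    rwa [← mul_assoc]
  have hrel : C.relIndex A = cardC P n := by
    have h1 := Subgroup.relIndex_mul_index hCA
    rw [hA, hC, cardC_S_mul h hs hn hl, mul_comm] at h1
    exact Nat.eq_of_mul_eq_mul_left (cardC_pos P s) h1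
  -- the map of cosets
  have hmem : ∀ a : A, s⁻¹ * ((a : U) : G) * s ∈ U := fun a =>
    h.conj_stab a.1.2 (MulAction.mem_stabilizer_iff.1 a.2)
  have hwell : ∀ a b : A, (s⁻¹ * ((a : U) : G) * s) • (n : G ⧸ P.B) =
      (s⁻¹ * ((b : U) : G) * s) • (n : G ⧸ P.B) ↔ a⁻¹ * b ∈ C.subgroupOf A := by
    intro a b
    rw [Subgroup.mem_subgroupOf, MulAction.mem_stabilizer_iff]
    show _ ↔ (((a : U) : G)⁻¹ * ((b : U) : G)) • ((s * n : G) : G ⧸ P.B) = _
    rw [show ((s * n : G) : G ⧸ P.B) = s • (n : G ⧸ P.B) from rfl, mul_smul, mul_smul, mul_smul,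
      mul_smul, mul_smul, smul_left_cancel_iff, inv_smul_eq_iff]
    exact eq_comm
  let f : A ⧸ C.subgroupOf A → sch P n := fun q =>
    ⟨(s⁻¹ * ((q.out : U) : G) * s) • (n : G ⧸ P.B),
      smul_mem_sch P (h.le (hmem _)) ⟨n, self_mem_cell P n, rfl⟩⟩
  have hf : Function.Bijective f := by
    refine (Nat.bijective_iff_injective_and_card f).2 ⟨fun q q' e => ?_, ?_⟩
    · have := (hwell _ _).1 (congrArg Subtype.val e)
      rw [← QuotientGroup.eq, QuotientGroup.out_eq', QuotientGroup.out_eq'] at this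
      exact this
    · exact hrel
  obtain ⟨q, hq⟩ := hf.2 ⟨y, hy⟩
  refine ⟨_, hmem q.out, ?_, (congrArg Subtype.val hq).symm⟩
  rw [show s * (s⁻¹ * ((q.out : U) : G) * s) * s⁻¹ = ((q.out : U) : G) by group]
  exact (q.out : U).2

end Cfsg.Agent.Steinberg
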