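import Cfsg.Agent.Lib.Steinberg.Spherical
import Cfsg.Agent.Lib.BlocksCore.DefectZero
import Cfsg.Agent.BC86.Modular
import Cfsg.Prelude.Def_ParabolicCharacters
import Mathlib.GroupTheory.PGroup
import Mathlib.GroupTheory.Sylow

/-!
# Split (B,N)-pairs: the restriction of the Steinberg character to `B`, degree, vanishing
-/

set_option autoImplicit false
set_option linter.unusedSectionVars false

namespace Cfsg.Agent.Steinberg

open Cfsg.Agent.BN
open scoped Classical

variable {G : Type*} [Group G] [Fintype G] (P : Cfsg.BNPair G) {p : ℕ} [hp : Fact p.Prime]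

/-- `B = U (B ∩ N)` with `U` a normal `p`-subgroup, `B ∩ N` of order prime to `p`, and a cell with
at least `|U|` cosets. -/
structure Split (p : ℕ) (U : Subgroup G) : Prop where
  le : U ≤ P.B
  conj : ∀ b ∈ P.B, ∀ u ∈ U, b * u * b⁻¹ ∈ U
  pgroup : IsPGroup p U
  decomp : ∀ b ∈ P.B, ∃ u ∈ U, ∃ t ∈ P.B ⊓ P.N, b = u * t
  torus : ¬ p ∣ Nat.card ↥(P.B ⊓ P.N)
  big : ∃ n ∈ P.N, Nat.card U ≤ cardC P n

variable {P} {U : Subgroup G} (h : Split P p U)

namespace Split

include h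

theorem torus_smul {n t : G} (hn : n ∈ P.N) (ht : t ∈ P.B ⊓ P.N) :
    t • (n : G ⧸ P.B) = (n : G ⧸ P.B) := by
  show ((t * n : G) : G ⧸ P.B) = _
  refine QuotientGroup.eq.2 ?_
  have := P.conj_mem n⁻¹ (P.N.inv_mem hn) t⁻¹ (inv_mem ht)
  simpa [mul_assoc] using this

theorem exists_smul {n : G} (hn : n ∈ P.N) {y : G ⧸ P.B} (hy : y ∈ sch P n) :
    ∃ u ∈ U, y = u • (n : G ⧸ P.B) := by
  obtain ⟨g, hg, rfl⟩ := hy
  obtain ⟨a, ha, b, hb, rfl⟩ := (mem_cell P).1 hg
  obtain ⟨u, hu, t, ht, rfl⟩ := h.decomp a ha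
  refine ⟨u, hu, ?_⟩
  rw [← h.torus_smul hn ht, smul_smul]
  refine QuotientGroup.eq.2 ?_
  show (u * t * n * b)⁻¹ * (u * t * n) ∈ P.B
  simp [mul_assoc, hb]

theorem sch_eq_orbit {n : G} (hn : n ∈ P.N) :
    sch P n = MulAction.orbit U (n : G ⧸ P.B) := by
  ext y
  constructor
  · intro hy
    obtain ⟨u, hu, rfl⟩ := h.exists_smul hn hy
    exact ⟨⟨u, hu⟩, rfl⟩
  · rintro ⟨u, rfl⟩
    exact smul_mem_sch P (h.le u.2) ⟨n, self_mem_cell P n, rfl⟩

theorem cardC_dvd {n : G} (hn : n ∈ P.N) : cardC P n ∣ Nat.card U := by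
  rw [cardC, h.sch_eq_orbit hn, Nat.card_coe_set_eq, ← MulAction.index_stabilizer]
  exact Subgroup.index_dvd_card _

theorem one_lt_cardC_S {s : G} (hs : s ∈ P.S) : 1 < cardC P s := by
  by_contra hc
  have h1 : cardC P s = 1 := by have := cardC_pos P s; omega
  rw [cardC, Nat.card_eq_one_iff_unique] at h1
  obtain ⟨h1, -⟩ := h1
  obtain ⟨b, hb, hbs⟩ := exists_mem_cell_S P hs
  have e : b • (s : G ⧸ P.B) = (s : G ⧸ P.B) :=
    congrArg Subtype.val (Subsingleton.elim
      (⟨_, smul_mem_sch P hb ⟨s, self_mem_cell P s, rfl⟩⟩ : sch P s)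
      ⟨(s : G ⧸ P.B), s, self_mem_cell P s, rfl⟩)
  have e2 : (b * s)⁻¹ * s ∈ P.B := QuotientGroup.eq.1 e
  have h3 : s * b * s ∈ P.B := by
    have e3 : s * b * s = s * s * ((b * s)⁻¹ * s)⁻¹ := by group
    rw [e3]
    exact mul_mem (P.sq_mem s hs) (inv_mem e2)
  have h4 := eqv_of_cell_eq P P.N.one_mem (S_mem_N P hs)
    ((cell_eq_of_mem P ((cell_one P).2 h3)).symm.trans (cell_eq_of_mem P hbs))
  exact S_not_mem_B P hs (by simpa [Eqv] using h4)

theorem one_lt_cardC {n : G} (hn : n ∈ P.N) (hnB : n ∉ P.B) : 1 < cardC P n := by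
  obtain ⟨s, hs, m, hm, hl, he⟩ := exists_last P hn
    (Nat.pos_of_ne_zero fun e => hnB ((len_eq_zero P hn).1 e))
  rw [← cardC_congr P he, cardC_mul_S P hs hm (by rw [len_congr P he]; omega)]
  exact lt_of_lt_of_le (h.one_lt_cardC_S hs) (Nat.le_mul_of_pos_left _ (cardC_pos P m))

theorem cardC_w0 : cardC P (w0 P) = Nat.card U := by
  obtain ⟨n, hn, hle⟩ := h.big
  have hle' := Nat.le_of_dvd Nat.card_pos (h.cardC_dvd (w0_mem P))
  by_cases hw : Eqv P n (w0 P)
  · rw [← cardC_congr P hw]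
    exact le_antisymm (Nat.le_of_dvd Nat.card_pos (h.cardC_dvd hn)) hle
  · exfalso
    obtain ⟨s, hs, hl⟩ := exists_ascent P hn hw
    have h1 := Nat.le_of_dvd Nat.card_pos (h.cardC_dvd (P.N.mul_mem hn (S_mem_N P hs)))
    rw [cardC_mul_S P hs hn hl] at h1
    have h2 := h.one_lt_cardC_S hs
    have h3 := cardC_pos P n
    have : cardC P n * 2 ≤ cardC P n * cardC P s := Nat.mul_le_mul_left _ h2
    omega

/-- `u ↦ u w₀ B` is a bijection from `U` to the big cell. -/
theorem bijective_w0 : Function.Bijective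
    (fun u : U => (⟨(u : G) • ((w0 P : G) : G ⧸ P.B),
      smul_mem_sch P (h.le u.2) ⟨w0 P, self_mem_cell P _, rfl⟩⟩ : sch P (w0 P))) := by
  refine (Nat.bijective_iff_surjective_and_card _).2 ⟨?_, h.cardC_w0.symm⟩
  rintro ⟨y, hy⟩
  obtain ⟨u, hu, rfl⟩ := h.exists_smul (w0_mem P) hy
  exact ⟨⟨u, hu⟩, rfl⟩

theorem smul_w0_iff {u : G} (hu : u ∈ U) : u • ((w0 P : G) : G ⧸ P.B) = ((w0 P : G) : G ⧸ P.B) ↔ u = 1 := by
  refine ⟨fun e => ?_, fun e => by rw [e, one_smul]⟩
  have := @(h.bijective_w0).1 ⟨u, hu⟩ 1 (Subtype.ext (e.trans (one_smul G _).symm))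
  exact congrArg Subtype.val this

theorem inter_eq_one {g : G} (hg : g ∈ U) (hg' : g ∈ P.N) : g = 1 :=
  (h.smul_w0_iff hg).1 (h.torus_smul (w0_mem P) ⟨h.le hg, hg'⟩)

/-- The point of the big cell attached to an element of `B`. -/
theorem bijective_quot : Function.Bijective
    (fun x : P.B ⧸ (P.B ⊓ P.N).subgroupOf P.B => (⟨(x.out : G) • ((w0 P : G) : G ⧸ P.B),
      smul_mem_sch P x.out.2 ⟨w0 P, self_mem_cell P _, rfl⟩⟩ : sch P (w0 P))) := by
  have hsurj : ∀ b : P.B, ((QuotientGroup.mk b : P.B ⧸ (P.B ⊓ P.N).subgroupOf P.B).out : G) •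
      ((w0 P : G) : G ⧸ P.B) = (b : G) • ((w0 P : G) : G ⧸ P.B) := by
    intro b
    obtain ⟨t, ht⟩ := QuotientGroup.mk_out_eq_mul ((P.B ⊓ P.N).subgroupOf P.B) b
    rw [ht, Subgroup.coe_mul, mul_smul, h.torus_smul (w0_mem P) (Subgroup.mem_subgroupOf.1 t.2)]
  refine ⟨?_, ?_⟩
  · intro x x' e
    have e' : (x.out : G) • ((w0 P : G) : G ⧸ P.B) = (x'.out : G) • ((w0 P : G) : G ⧸ P.B) :=
      congrArg Subtype.val e
    rw [← QuotientGroup.out_eq' x, ← QuotientGroup.out_eq' x']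
    refine QuotientGroup.eq.2 ?_
    obtain ⟨u, hu, t, ht, hut⟩ := h.decomp _ (x.out⁻¹ * x'.out).2
    have e2 : ((x.out⁻¹ * x'.out : P.B) : G) • ((w0 P : G) : G ⧸ P.B) = ((w0 P : G) : G ⧸ P.B) := by
      rw [Subgroup.coe_mul, Subgroup.coe_inv, mul_smul, ← e', inv_smul_smul]
    rw [hut, mul_smul, h.torus_smul (w0_mem P) ht] at e2
    rw [(h.smul_w0_iff hu).1 e2, one_mul] at hut
    exact Subgroup.mem_subgroupOf.2 (hut ▸ ht)
  · rintro ⟨y, hy⟩
    obtain ⟨u, hu, rfl⟩ := h.exists_smul (w0_mem P) hy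
    exact ⟨QuotientGroup.mk (⟨u, h.le hu⟩ : P.B), Subtype.ext (hsurj ⟨u, h.le hu⟩)⟩

omit h

/-- The points of an apartment, with signs. -/
noncomputable def apt (P : Cfsg.BNPair G) (y : G ⧸ P.B) : ℂ :=
  if ∃ n ∈ P.N, (n : G ⧸ P.B) = y then (-1) ^ len P (rep P y.out) else 0

theorem apt_mk {n : G} (hn : n ∈ P.N) : apt P (n : G ⧸ P.B) = (-1) ^ len P n := by
  rw [apt, if_pos ⟨n, hn, rfl⟩]
  congr 1
  refine len_congr P (rep_eqv P hn ((mk_mem_sch P).1 ?_))
  rw [QuotientGroup.out_eq']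
  exact ⟨n, self_mem_cell P n, rfl⟩

theorem apt_of_not {y : G ⧸ P.B} (hy : ¬ ∃ n ∈ P.N, (n : G ⧸ P.B) = y) : apt P y = 0 := if_neg hy

theorem apt_mem : apt P ∈ stMod P := by
  intro s hs g
  by_cases hex : ∃ n ∈ P.N, (n : G ⧸ P.B) ∈ (PsF P s).image (fun y => g • y)
  · obtain ⟨n, hn, hy⟩ := hex
    obtain ⟨z, hz, hzn⟩ := Finset.mem_image.1 hy
    induction z using QuotientGroup.induction_on with
    | H q =>
      have hq := (mem_PsF P).1 hz
      have hb : (g * q)⁻¹ * n ∈ P.B := QuotientGroup.eq.1 hzn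
      have hp' : g⁻¹ * n ∈ P.B ∨ g⁻¹ * n ∈ cell P s := by
        have := mul_mem_two P hs hq (Or.inl hb)
        rwa [show q * ((g * q)⁻¹ * n) = g⁻¹ * n by group] at this
      have e : ∀ y : G ⧸ P.B, n • y = g • ((g⁻¹ * n) • y) := fun y => by
        rw [smul_smul, mul_inv_cancel_left]
      rw [← sum_PsF_smul P hs hp' (fun y => apt P (g • y))]
      simp only [← e]
      rw [sum_PsF_eq P hs, smul_mk_one, apt_mk hn,
        Finset.sum_eq_single_of_mem ((s : G) : G ⧸ P.B)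
          ((Set.Finite.mem_toFinset _).2 ((mk_mem_sch P).2 (self_mem_cell P s)))]
      · rw [show n • ((s : G) : G ⧸ P.B) = ((n * s : G) : G ⧸ P.B) from rfl,
          apt_mk (P.N.mul_mem hn (S_mem_N P hs))]
        rcases len_mul_S_cases P hs hn with hl | hl
        · rw [hl, pow_succ]; ring
        · rw [← hl, pow_succ]; ring
      · intro y hy' hne
        refine apt_of_not ?_
        rintro ⟨m, hm, hmy⟩
        obtain ⟨w, hw, rfl⟩ := (Set.Finite.mem_toFinset _).1 hy'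
        apply hne
        have h1 : (n * w)⁻¹ * m ∈ P.B := QuotientGroup.eq.1 hmy.symm
        have h2 : n⁻¹ * m ∈ cell P s := by
          have := mul_mem_cell_right P h1 hw
          rwa [show w * ((n * w)⁻¹ * m) = n⁻¹ * m by group] at this
        have h3 := eqv_of_cell_eq P (P.N.mul_mem (P.N.inv_mem hn) hm) (S_mem_N P hs)
          (cell_eq_of_mem P h2)
        refine QuotientGroup.eq.2 ?_
        have e' : w⁻¹ * s = ((n * w)⁻¹ * m) * ((n⁻¹ * m)⁻¹ * s) := by group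
        rw [e']
        exact mul_mem h1 h3
  · refine Finset.sum_eq_zero fun y hy => apt_of_not ?_
    rintro ⟨n, hn, hny⟩
    exact hex ⟨n, hn, Finset.mem_image.2 ⟨y, hy, hny.symm⟩⟩

/-- Restriction to the big cell. -/
noncomputable def res (P : Cfsg.BNPair G) :
    (stSub P).toSubmodule →ₗ[ℂ] (sch P (w0 P) → ℂ) where
  toFun f := fun y => (f : (G ⧸ P.B) → ℂ) y
  map_add' _ _ := rfl
  map_smul' _ _ := rfl

theorem res_injective : Function.Injective (res P) := by
  rw [injective_iff_map_eq_zero]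
  intro f hf
  suffices ∀ k, ∀ n ∈ P.N, len P (w0 P) - len P n = k → ∀ g ∈ cell P n,
      (f : (G ⧸ P.B) → ℂ) (g : G ⧸ P.B) = 0 by
    refine Subtype.ext (funext fun y => ?_)
    induction y using QuotientGroup.induction_on with
    | H g => exact this _ _ (rep_mem P g) rfl g (mem_cell_rep P g)
  intro k
  induction k using Nat.strong_induction_on with
  | _ k ih =>
    intro n hn hk g hg
    by_cases hw : Eqv P n (w0 P)
    · rw [cell_congr P hw] at hg
      exact congrFun hf ⟨(g : G ⧸ P.B), g, hg, rfl⟩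
    · obtain ⟨s, hs, hl⟩ := exists_ascent P hn hw
      have hns := P.N.mul_mem hn (S_mem_N P hs)
      have h0 := f.2 s hs g
      rw [sum_PsF_eq P hs, smul_mk_one, Finset.sum_eq_zero fun y hy => ?_, add_zero] at h0
      · exact h0
      · obtain ⟨w, hw', rfl⟩ := (Set.Finite.mem_toFinset _).1 hy
        have := len_le_w0 P hns
        exact ih _ (by omega) (n * s) hns rfl _ (mul_mem_cell_right_of_len P hs hn hl.le hg hw')

include h

theorem res_surjective : Function.Surjective (res P) := by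
  intro φ
  refine ⟨∑ u : U, ((-1 : ℂ) ^ len P (w0 P) *
    φ ⟨(u : G) • ((w0 P : G) : G ⧸ P.B), smul_mem_sch P (h.le u.2) ⟨w0 P, self_mem_cell P _, rfl⟩⟩) •
    (stSub P).toRepresentation (u : G) ⟨apt P, apt_mem⟩, ?_⟩
  funext y
  obtain ⟨u₀, hu₀⟩ := h.bijective_w0.2 y
  show ((∑ u : U, _ : (stSub P).toSubmodule) : (G ⧸ P.B) → ℂ) y = _
  rw [Submodule.coe_sum, Finset.sum_apply, Finset.sum_eq_single_of_mem u₀ (Finset.mem_univ _)]
  · show ((-1 : ℂ) ^ len P (w0 P) * φ _) * apt P ((u₀ : G)⁻¹ • (y : G ⧸ P.B)) = φ y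
    rw [← hu₀]
    show _ * apt P ((u₀ : G)⁻¹ • ((u₀ : G) • ((w0 P : G) : G ⧸ P.B))) = _
    rw [inv_smul_smul, apt_mk (w0_mem P), mul_assoc, mul_comm (φ _), ← mul_assoc, ← pow_add,
      ← two_mul, pow_mul, neg_one_sq, one_pow, one_mul]
  · intro u _ hne
    show ((-1 : ℂ) ^ len P (w0 P) * φ _) * apt P ((u : G)⁻¹ • (y : G ⧸ P.B)) = 0
    refine mul_eq_zero_of_right _ (apt_of_not ?_)
    rintro ⟨m, hm, hmy⟩
    apply hne
    have hy : (m : G ⧸ P.B) ∈ sch P (w0 P) := by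
      rw [hmy]; exact smul_mem_sch P (inv_mem (h.le u.2)) y.2
    have he : (m : G ⧸ P.B) = ((w0 P : G) : G ⧸ P.B) :=
      QuotientGroup.eq.2 (eqv_of_cell_eq P hm (w0_mem P)
        (cell_eq_of_mem P ((mk_mem_sch P).1 hy)))
    refine h.bijective_w0.1 (Eq.trans (Subtype.ext ?_) hu₀.symm)
    show (u : G) • ((w0 P : G) : G ⧸ P.B) = (y : G ⧸ P.B)
    rw [← he, hmy, smul_inv_smul]

/-- On `B` the Steinberg character is the permutation character on the big cell. -/
theorem stChar_of_mem {b : G} (hb : b ∈ P.B) :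
    stChar P b = (Nat.card {y : sch P (w0 P) // b • (y : G ⧸ P.B) = (y : G ⧸ P.B)} : ℂ) := by
  set e := LinearEquiv.ofBijective (res P) ⟨res_injective, h.res_surjective⟩
  rw [show stChar P b = LinearMap.trace ℂ _ ((stSub P).toRepresentation b) from rfl,
    ← LinearMap.trace_conj' ((stSub P).toRepresentation b) e,
    LinearMap.trace_eq_matrix_trace ℂ (Pi.basisFun ℂ (sch P (w0 P))), Matrix.trace,
    Nat.card_eq_fintype_card, Fintype.card_subtype, ← Finset.sum_boole]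
  refine Finset.sum_congr rfl fun y _ => ?_
  rw [Matrix.diag_apply, LinearMap.toMatrix_apply]
  simp only [Pi.basisFun_repr, Pi.basisFun_apply, LinearEquiv.conj_apply_apply]
  obtain ⟨f, hf⟩ : ∃ f, e f = Pi.single y (1 : ℂ) := ⟨_, e.apply_symm_apply _⟩
  rw [← hf, e.symm_apply_apply]
  show (f : (G ⧸ P.B) → ℂ) (b⁻¹ • (y : G ⧸ P.B)) = _
  have := congrFun hf ⟨b⁻¹ • (y : G ⧸ P.B), smul_mem_sch P (inv_mem hb) y.2⟩
  rw [show (f : (G ⧸ P.B) → ℂ) (b⁻¹ • (y : G ⧸ P.B)) = _ from this, Pi.single_apply]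
  refine if_congr ?_ rfl rfl
  rw [Subtype.ext_iff]
  show b⁻¹ • (y : G ⧸ P.B) = y ↔ _
  rw [inv_smul_eq_iff, eq_comm]

/-- On `B` the Steinberg character is the permutation character on the cosets of `B ∩ N`. -/
theorem stChar_eq_fixedPointCharacter (b : P.B) :
    stChar P (b : G) = Cfsg.fixedPointCharacter ((P.B ⊓ P.N).subgroupOf P.B) b := by
  rw [h.stChar_of_mem b.2, Cfsg.fixedPointCharacter]
  congr 1
  refine (Nat.card_congr ((Equiv.ofBijective _ h.bijective_quot).subtypeEquiv ?_)).symm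
  intro x
  rw [MulAction.mem_fixedBy, ← (h.bijective_quot).1.eq_iff]
  rw [Subtype.ext_iff]
  have e : ((b • x).out : G) • ((w0 P : G) : G ⧸ P.B) =
      (b : G) • ((x.out : G) • ((w0 P : G) : G ⧸ P.B)) := by
    conv_lhs => rw [← QuotientGroup.out_eq' x]
    obtain ⟨t, ht⟩ := QuotientGroup.mk_out_eq_mul ((P.B ⊓ P.N).subgroupOf P.B) (b * x.out)
    show (((QuotientGroup.mk (b * x.out) : P.B ⧸ (P.B ⊓ P.N).subgroupOf P.B).out : P.B) : G) •
      ((w0 P : G) : G ⧸ P.B) = _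
    rw [ht, Subgroup.coe_mul, mul_smul, h.torus_smul (w0_mem P) (Subgroup.mem_subgroupOf.1 t.2), Subgroup.coe_mul, mul_smul]
  show ((b • x).out : G) • ((w0 P : G) : G ⧸ P.B) = (x.out : G) • ((w0 P : G) : G ⧸ P.B) ↔ _
  rw [e]
  rfl

theorem stChar_one : stChar P 1 = (Nat.card U : ℂ) := by
  rw [h.stChar_of_mem P.B.one_mem, ← h.cardC_w0, cardC]
  congr 1
  exact Nat.card_congr (Equiv.subtypeUnivEquiv fun y => one_smul G _)

theorem card_B : Nat.card P.B = Nat.card U * Nat.card ↥(P.B ⊓ P.N) := by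
  rw [← Nat.card_prod]
  refine (Nat.card_congr (Equiv.ofBijective
    (fun x : U × ↥(P.B ⊓ P.N) => (⟨(x.1 : G) * x.2, mul_mem (h.le x.1.2) x.2.2.1⟩ : P.B))
      ⟨?_, ?_⟩)).symm
  · rintro ⟨u, t⟩ ⟨u', t'⟩ e
    have e' : (u : G) * t = u' * t' := congrArg Subtype.val e
    have e1 : (u' : G)⁻¹ * u = t' * (t : G)⁻¹ := by
      rw [eq_mul_inv_iff_mul_eq, mul_assoc, e', inv_mul_cancel_left]
    have e2 := h.inter_eq_one (mul_mem (inv_mem u'.2) u.2)
      (e1 ▸ mul_mem t'.2.2 (inv_mem t.2.2))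
    rw [inv_mul_eq_one] at e2
    obtain rfl : u' = u := Subtype.ext e2
    exact Prod.ext rfl (Subtype.ext (mul_left_cancel e'))
  · rintro ⟨b, hb⟩
    obtain ⟨u, hu, t, ht, rfl⟩ := h.decomp b hb
    exact ⟨⟨⟨u, hu⟩, ⟨t, ht⟩⟩, rfl⟩

include hp

theorem index_B_modEq : P.B.index ≡ 1 [MOD p] := by
  have h1 := h.pgroup.card_modEq_card_fixedPoints (G ⧸ P.B)
  have h2 : MulAction.fixedPoints U (G ⧸ P.B) = {((1 : G) : G ⧸ P.B)} := by
    ext y
    rw [MulAction.mem_fixedPoints, Set.mem_singleton_iff]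
    constructor
    · intro hy
      induction y using QuotientGroup.induction_on with
      | H g =>
        obtain ⟨n, hn, hg⟩ := exists_cell P g
        by_cases hnB : n ∈ P.B
        · refine QuotientGroup.eq.2 ?_
          rw [cell_congr P (h := 1) (by simpa using inv_mem hnB), cell_one P] at hg
          simpa using inv_mem hg
        · exfalso
          have h3 := h.one_lt_cardC hn hnB
          have h4 : Subsingleton (sch P n) := by
            refine ⟨fun a c => Subtype.ext ?_⟩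
            have key : ∀ a : sch P n, (a : G ⧸ P.B) = (g : G ⧸ P.B) := by
              intro a
              obtain ⟨u, hu, e⟩ := h.exists_smul hn a.2
              obtain ⟨v, hv, e'⟩ := h.exists_smul hn ((mk_mem_sch P).2 hg)
              have e2 : ((⟨v, hv⟩ : U)⁻¹ • ((g : G ⧸ P.B))) = (g : G ⧸ P.B) := hy _
              have e3 : (⟨u, hu⟩ : U) • ((g : G ⧸ P.B)) = (g : G ⧸ P.B) := hy _
              have e4 : (n : G ⧸ P.B) = (g : G ⧸ P.B) := by
                refine Eq.trans ?_ e2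
                show _ = v⁻¹ • (g : G ⧸ P.B)
                rw [e', inv_smul_smul]
              rw [e, e4]
              exact e3
            rw [key a, key c]
          have : cardC P n ≤ 1 := by
            rw [cardC]; exact Finite.card_le_one_iff_subsingleton.2 h4
          omega
    · rintro rfl ⟨u, hu⟩
      show u • ((1 : G) : G ⧸ P.B) = _
      rw [smul_mk_one]
      exact QuotientGroup.eq.2 (by simpa using inv_mem (h.le hu))
  rw [h2] at h1
  simpa [Subgroup.index] using h1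

theorem not_dvd_card_div : ¬ p ∣ Nat.card G / Nat.card U := by
  have e : Nat.card G / Nat.card U = Nat.card ↥(P.B ⊓ P.N) * P.B.index := by
    rw [← P.B.card_mul_index, h.card_B, mul_assoc, Nat.mul_div_cancel_left _ Nat.card_pos]
  rw [e]
  intro hd
  rcases hp.out.dvd_mul.1 hd with hd | hd
  · exact h.torus hd
  · have := h.index_B_modEq
    rw [Nat.ModEq, Nat.dvd_iff_mod_eq_zero.1 hd, Nat.one_mod_eq_one.2 hp.out.one_lt.ne'] at this
    exact zero_ne_one this

/-- The order of `U` is the full power of `p` in the order of the group. -/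
theorem card_U_eq : Nat.card U = p ^ (Nat.card G).factorization p := by
  obtain ⟨k, hk⟩ := IsPGroup.iff_card.1 h.pgroup
  have h1 := h.not_dvd_card_div
  have h2 : Nat.card U ∣ Nat.card G := Subgroup.card_subgroup_dvd_card U
  have h3 : Nat.card U * (Nat.card G / Nat.card U) = Nat.card G := Nat.mul_div_cancel' h2
  have h4 : Nat.card G / Nat.card U ≠ 0 := fun e => h1 (e ▸ dvd_zero p)
  rw [← h3, Nat.factorization_mul Nat.card_pos.ne' h4, Finsupp.add_apply,
    Nat.factorization_eq_zero_of_not_dvd h1, add_zero, hk, hp.out.factorization_pow,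
    Finsupp.single_eq_same]

/-- `U` is a Sylow subgroup. -/
theorem exists_sylow : ∃ Q : Sylow p G, (Q : Subgroup G) = U :=
  ⟨Sylow.ofCard U h.card_U_eq, rfl⟩

/-- The Steinberg character vanishes at the `p`-singular elements. -/
theorem stChar_eq_zero {g : G} (hg : p ∣ orderOf g) : stChar P g = 0 := by
  obtain ⟨M, hM⟩ := BC86.exists_isPModular hp.out
  set χ : Cfsg.IrrCharacter G := ⟨stChar P, isIrrCharacter_stChar P⟩
  have hd : Cfsg.charDegree (χ : G → ℂ) = Nat.card U := by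
    show ⌊(stChar P 1).re⌋₊ = _
    rw [h.stChar_one]
    simp
  exact BlocksCore.eq_zero_of_blockOf_eq_singleton hM χ
    (BlocksCore.blockOf_eq_singleton_of_not_dvd hM χ (hd ▸ h.not_dvd_card_div)) hg

end Split

end Cfsg.Agent.Steinberg
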