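import Cfsg.Agent.Lib.Steinberg.DegreeOne
import Cfsg.Agent.Lib.CharClifford.Central

/-!
# The Steinberg character is the only irreducible character of defect zero
-/

set_option autoImplicit false
set_option linter.unusedSectionVars false

namespace Cfsg.Agent.Steinberg

open Cfsg.Agent.BN
open scoped Classical ComplexConjugate

variable {G : Type*} [Group G] [Fintype G] {P : Cfsg.BNPair G} {p : ℕ} [hp : Fact p.Prime]
  {U : Subgroup G}

/-- Rank one relations and generation of the torus. -/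
structure Rel (P : Cfsg.BNPair G) (U : Subgroup G) : Prop where
  one : ∀ s ∈ P.S, ∃ u ∈ U, ∃ u₁ ∈ U, ∃ u₂ ∈ U, s * u * s = u₁ * s * u₂
  gen : ∀ K : Subgroup G,
    (∀ n ∈ P.N, ∀ t ∈ P.B ⊓ P.N, t ∈ K → n * t * n⁻¹ ∈ K) → (∀ s ∈ P.S, s * s ∈ K) →
    (∀ s ∈ P.S, ∀ u ∈ U, ∀ u₁ ∈ U, ∀ u₂ ∈ U, ∀ t ∈ P.B ⊓ P.N,
      s * u * s = u₁ * t * s * u₂ → t ∈ K) → P.B ⊓ P.N ≤ K

/-- The function `|U|⁻¹ Σ_u χ(g u)`. -/
noncomputable def aFun (U : Subgroup G) (χ : G → ℂ) (g : G) : ℂ :=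
  (Nat.card U : ℂ)⁻¹ * ∑ u : U, χ (g * u)

theorem norm_sum_lt_or_eq {ι : Type*} (s : Finset ι) (z : ι → ℂ) (hz : ∀ i ∈ s, ‖z i‖ = 1)
    (h : ‖∑ i ∈ s, z i‖ = (s.card : ℝ)) {j : ι} (hj : j ∈ s) (h1 : z j = 1) :
    ∀ i ∈ s, z i = 1 := by
  set S := ∑ i ∈ s, z i
  have hpos : (0 : ℝ) < s.card := by exact_mod_cast Finset.card_pos.2 ⟨j, hj⟩
  set w : ℂ := conj S / (s.card : ℂ)
  have hw : ‖w‖ = 1 := by
    rw [norm_div, Complex.norm_conj, h, Complex.norm_natCast, div_self hpos.ne']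
  have hre : ∀ i ∈ s, (w * z i).re = 1 := by
    have h2 : ∑ i ∈ s, (w * z i).re = ∑ _i ∈ s, (1 : ℝ) := by
      rw [← Complex.re_sum, ← Finset.mul_sum]
      show (conj S / (s.card : ℂ) * S).re = _
      rw [div_mul_eq_mul_div, mul_comm, Complex.mul_conj, ← Complex.ofReal_natCast,
        ← Complex.ofReal_div, Complex.ofReal_re, Complex.normSq_eq_norm_sq, h, Finset.sum_const,
        nsmul_eq_mul, mul_one, pow_two, mul_div_assoc, div_self hpos.ne', mul_one]
    intro i hi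
    refine ((Finset.sum_eq_sum_iff_of_le fun i hi => ?_).1 h2) i hi
    calc (w * z i).re ≤ ‖w * z i‖ := Complex.re_le_norm _
      _ = 1 := by rw [norm_mul, hw, hz i hi, one_mul]
  have hone : ∀ i ∈ s, w * z i = 1 := by
    intro i hi
    have h2 : ‖w * z i‖ = 1 := by rw [norm_mul, hw, hz i hi, one_mul]
    have h3 := Complex.sq_norm (w * z i)
    rw [h2, Complex.normSq_apply, hre i hi] at h3
    refine Complex.ext (hre i hi) ?_
    simp only [Complex.one_im]
    nlinarith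
  intro i hi
  have hwj := hone j hj
  rw [h1, mul_one] at hwj
  have := hone i hi
  rwa [hwj, one_mul] at this

/-- The elementary inequality for the eigenvalue of a Hecke operator. -/
theorem one_le_norm_of_quadratic {q : ℕ} (hq : 1 < q) {c l L : ℂ} (hl : ‖l‖ = 1)
    (hL : ‖L‖ ≤ (q : ℝ) - 1) (h : c * c = q * l + c * L) :
    1 ≤ ‖c‖ ∧ (‖c‖ = 1 → ‖L‖ = (q : ℝ) - 1 ∧ (L = ((q : ℂ) - 1) → c = -1 ∧ l = 1)) := by
  have hq' : (1 : ℝ) < q := by exact_mod_cast hq
  have e : c * (c - L) = q * l := by linear_combination h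
  have e' : ‖c‖ * ‖c - L‖ = q := by
    rw [← norm_mul, e, norm_mul, hl, Complex.norm_natCast, mul_one]
  have hle : ‖c - L‖ ≤ ‖c‖ + ‖L‖ := norm_sub_le c L
  refine ⟨?_, fun hc => ?_⟩
  · by_contra hlt
    push Not at hlt
    nlinarith [norm_nonneg c, norm_nonneg L, norm_nonneg (c - L)]
  · rw [hc, one_mul] at e'
    refine ⟨by rw [hc] at hle; linarith, fun hL' => ?_⟩
    subst hL'
    have h1 := Complex.sq_norm c
    have h2 := Complex.sq_norm (c - ((q : ℂ) - 1))
    rw [hc, Complex.normSq_apply] at h1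
    rw [e', Complex.normSq_apply] at h2
    simp only [Complex.sub_re, Complex.sub_im, Complex.natCast_re, Complex.natCast_im,
      Complex.one_re, Complex.one_im, sub_zero] at h2
    have hre : c.re = -1 := by nlinarith
    have him : c.im = 0 := by nlinarith
    have hc1 : c = -1 := Complex.ext (by simpa using hre) (by simpa using him)
    refine ⟨hc1, ?_⟩
    rw [hc1] at h
    have hq0 : (q : ℂ) ≠ 0 := by exact_mod_cast (by omega : q ≠ 0)
    exact mul_left_cancel₀ hq0 (by linear_combination -h)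

variable (h : Split2 P p U) (χ : Cfsg.IrrCharacter G)
  (hd : Cfsg.charDegree (χ : G → ℂ) = Nat.card U)
  (hdiv : ¬ p ∣ Nat.card G / Cfsg.charDegree (χ : G → ℂ))

include h hd hdiv

theorem sum_U : ∑ u : U, (χ : G → ℂ) u = (Nat.card U : ℂ) := by
  obtain ⟨M, hM⟩ := BC86.exists_isPModular hp.out
  rw [Finset.sum_eq_single (1 : U)]
  · rw [OneMemClass.coe_one, BlocksCore.irr_one_eq, hd]
  · intro u _ hu
    refine BlocksCore.eq_zero_of_blockOf_eq_singleton hM χ
      (BlocksCore.blockOf_eq_singleton_of_not_dvd hM χ hdiv) ?_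
    obtain ⟨k, hk⟩ := IsPGroup.iff_orderOf.1 h.pgroup u
    have hne : orderOf u ≠ 1 := by rwa [Ne, orderOf_eq_one_iff]
    rw [Subgroup.orderOf_coe, hk]
    exact dvd_pow_self p fun h0 => hne (by rw [hk, h0, pow_zero])
  · simp

/-- The representation data extracted from a character of degree `|U|`. -/
theorem exists_data : ∃ (V : Type) (_ : AddCommGroup V) (_ : Module ℂ V)
    (_ : FiniteDimensional ℂ V) (ρ : Representation ℂ G V) (e : V →ₗ[ℂ] V),
    e ≠ 0 ∧ (∀ u ∈ U, ρ u * e = e ∧ e * ρ u = e) ∧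
    (∀ g, e * ρ g * e = aFun U (χ : G → ℂ) g • e) ∧
    (∀ g, LinearMap.trace ℂ V (ρ g) = (χ : G → ℂ) g) ∧
    (∀ b ∈ P.B, ρ b * e = e * ρ b) ∧
    (∀ g, e * ρ g * e = (Nat.card U : ℂ)⁻¹ • ∑ u : U, e * ρ (g * u)) ∧
    LinearMap.trace ℂ V e = 1 ∧
    (∀ g, LinearMap.trace ℂ V (ρ g * e) = aFun U (χ : G → ℂ) g) ∧
    (∑ g, ρ g * e * ρ g⁻¹ = ((Nat.card G : ℂ) / Nat.card U) • 1) := by
  obtain ⟨n, ρ, hirr, hρ⟩ := χ.2
  haveI := hirr
  have hU0 : (Nat.card U : ℂ) ≠ 0 := by exact_mod_cast Nat.card_pos.ne'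
  set e : (Fin n → ℂ) →ₗ[ℂ] (Fin n → ℂ) := (Nat.card U : ℂ)⁻¹ • ∑ u : U, ρ u with he
  have hfix : ∀ u ∈ U, ρ u * e = e ∧ e * ρ u = e := by
    intro u hu
    constructor
    · rw [he, mul_smul_comm, Finset.mul_sum]
      congr 1
      refine Fintype.sum_equiv (Equiv.mulLeft (⟨u, hu⟩ : U)) _ _ fun v => ?_
      rw [← map_mul]; rfl
    · rw [he, smul_mul_assoc, Finset.sum_mul]
      congr 1
      refine Fintype.sum_equiv (Equiv.mulRight (⟨u, hu⟩ : U)) _ _ fun v => ?_
      rw [← map_mul]; rfl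
  have hidem : e * e = e := by
    conv_lhs => arg 1; rw [he]
    rw [smul_mul_assoc, Finset.sum_mul, Finset.sum_congr rfl fun u _ => (hfix _ u.2).1,
      Finset.sum_const, Finset.card_univ, ← Nat.card_eq_fintype_card, ← Nat.cast_smul_eq_nsmul ℂ,
      smul_smul, inv_mul_cancel₀ hU0, one_smul]
  have htr : ∀ g, LinearMap.trace ℂ (Fin n → ℂ) (ρ g) = (χ : G → ℂ) g := fun g => by
    rw [← hρ]; rfl
  have htre : ∀ g, LinearMap.trace ℂ (Fin n → ℂ) (ρ g * e) = aFun U (χ : G → ℂ) g := by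
    intro g
    rw [he, mul_smul_comm, map_smul, Finset.mul_sum, map_sum, aFun, smul_eq_mul]
    congr 1
    refine Finset.sum_congr rfl fun u _ => ?_
    rw [← map_mul, htr]
  have ht1 : LinearMap.trace ℂ (Fin n → ℂ) e = 1 := by
    have := htre 1
    rw [map_one, one_mul] at this
    rw [this, aFun]
    simp only [one_mul]
    rw [sum_U h χ hd hdiv, inv_mul_cancel₀ hU0]
  have hproj : LinearMap.IsProj (LinearMap.range e) e :=
    ⟨fun x => LinearMap.mem_range_self e x, by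
      rintro _ ⟨x, rfl⟩; exact LinearMap.congr_fun hidem x⟩
  have hr1 : Module.finrank ℂ (LinearMap.range e) = 1 := by
    have := hproj.trace
    rw [ht1] at this
    exact_mod_cast this.symm
  have hscal : ∀ f : (Fin n → ℂ) →ₗ[ℂ] (Fin n → ℂ),
      e * f * e = LinearMap.trace ℂ _ (f * e) • e := by
    intro f
    obtain ⟨⟨v, hv⟩, hv0, hspan⟩ := finrank_eq_one_iff'.1 hr1
    obtain ⟨c, hc⟩ := hspan ⟨e (f v), LinearMap.mem_range_self e _⟩
    have hc' : c • v = e (f v) := congrArg Subtype.val hc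
    have hcs : e * f * e = c • e := by
      refine LinearMap.ext fun x => ?_
      obtain ⟨α, hα⟩ := hspan ⟨e x, LinearMap.mem_range_self e x⟩
      have hα' : α • v = e x := congrArg Subtype.val hα
      simp only [Module.End.mul_apply, LinearMap.smul_apply, ← hα', map_smul, ← hc']
      rw [smul_comm]
    have hc2 : LinearMap.trace ℂ _ (f * e) = c := by
      have h1 := congrArg (LinearMap.trace ℂ _) hcs
      rw [map_smul, ht1, smul_eq_mul, mul_one, LinearMap.trace_mul_comm, ← mul_assoc, hidem,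
        LinearMap.trace_mul_comm] at h1
      exact h1
    rw [hc2, hcs]
  have hB : ∀ b ∈ P.B, ρ b * e = e * ρ b := by
    intro b hb
    rw [he, mul_smul_comm, smul_mul_assoc, Finset.mul_sum, Finset.sum_mul]
    congr 1
    refine Finset.sum_bij (fun (u : U) _ => (⟨b * u * b⁻¹, h.conj b hb u u.2⟩ : U))
      (fun _ _ => Finset.mem_univ _) ?_ ?_ ?_
    · intro a _ a' _ e'
      have := congrArg Subtype.val e'
      exact Subtype.ext (mul_left_cancel (mul_right_cancel this))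
    · intro v _
      exact ⟨⟨b⁻¹ * v * b, h.toSplit.conj_U hb v.2⟩, Finset.mem_univ _,
        Subtype.ext (by show b * (b⁻¹ * v * b) * b⁻¹ = v; group)⟩
    · intro u _
      rw [← map_mul, ← map_mul]
      congr 1
      show b * (u : G) = b * u * b⁻¹ * b
      group
  refine ⟨Fin n → ℂ, inferInstance, inferInstance, inferInstance, ρ, e, ?_, hfix, ?_, htr, hB, ?_,
    ht1, htre, ?_⟩
  · intro h0
    rw [h0, map_zero] at ht1
    exact zero_ne_one ht1
  · intro g
    rw [hscal, htre]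
  · intro g
    conv_lhs => arg 2; rw [he]
    rw [mul_smul_comm, Finset.mul_sum]
    congr 1
    exact Finset.sum_congr rfl fun u _ => by rw [map_mul, mul_assoc]
  · obtain ⟨c, hc⟩ := CharClifford.exists_scalar_of_commute ρ (∑ g, ρ g * e * ρ g⁻¹) (fun x => by
      rw [Commute, SemiconjBy, Finset.sum_mul, Finset.mul_sum]
      refine Fintype.sum_equiv (Equiv.mulLeft x⁻¹) _ _ fun g => ?_
      rw [Equiv.coe_mulLeft, mul_inv_rev, inv_inv]
      simp only [map_mul, mul_assoc]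
      rw [← mul_assoc (ρ x), ← map_mul ρ x x⁻¹, mul_inv_cancel, map_one, one_mul])
    have h1 := CharClifford.scalar_eq_of_trace hc
    have h2 : ∀ g : G, LinearMap.trace ℂ (Fin n → ℂ) (ρ g * e * ρ g⁻¹) = 1 := fun g => by
      rw [LinearMap.trace_mul_comm, ← mul_assoc, ← map_mul, inv_mul_cancel, map_one, one_mul, ht1]
    rw [map_sum, Finset.sum_congr rfl fun g _ => h2 g, Finset.sum_const, Finset.card_univ,
      ← Nat.card_eq_fintype_card, nsmul_eq_mul, mul_one] at h1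
    have hn : (Module.finrank ℂ (Fin n → ℂ) : ℂ) = Nat.card U := by
      have := htr 1
      rw [map_one, LinearMap.trace_one, BlocksCore.irr_one_eq, hd] at this
      exact this
    rw [hn] at h1
    rw [hc, h1, mul_div_assoc, div_self hU0, mul_one]

local notation "a" => aFun U (χ : G → ℂ)

theorem a_mul_left {g b : G} (hb : b ∈ P.B) : a (b * g) = a b * a g := by
  obtain ⟨V, _, _, _, ρ, e, he0, hfix, hege, htr, hB, -, -, -, -⟩ := exists_data h χ hd hdiv
  have h1 := hege (b * g)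
  rw [map_mul] at h1
  have hee : e * e = e := by
    have := hege 1
    rw [map_one, mul_one] at this
    rw [this, show a (1 : G) = 1 by
      rw [aFun]; simp only [one_mul]
      rw [sum_U h χ hd hdiv, inv_mul_cancel₀ (by exact_mod_cast Nat.card_pos.ne')], one_smul]
  have h2 : e * (ρ b * ρ g) * e = (e * ρ b * e) * (ρ g * e) := by
    calc e * (ρ b * ρ g) * e = (e * ρ b) * (ρ g * e) := by simp only [mul_assoc]
      _ = (e * e * ρ b) * (ρ g * e) := by rw [hee]
      _ = _ := by rw [mul_assoc e (ρ b) e, hB b hb]; simp only [mul_assoc]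
  rw [h2, hege b, smul_mul_assoc, ← mul_assoc, hege g, smul_smul] at h1
  exact (smul_left_injective ℂ he0 h1).symm

theorem a_one : a (1 : G) = 1 := by
  rw [aFun]; simp only [one_mul]
  rw [sum_U h χ hd hdiv, inv_mul_cancel₀ (by exact_mod_cast Nat.card_pos.ne')]

theorem a_mul_right {g b : G} (hb : b ∈ P.B) : a (g * b) = a g * a b := by
  obtain ⟨V, _, _, _, ρ, e, he0, hfix, hege, htr, hB, -, -, -, -⟩ := exists_data h χ hd hdiv
  have hee : e * e = e := by
    have := hege 1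
    rwa [map_one, mul_one, a_one h χ hd hdiv, one_smul] at this
  have h1 := hege (g * b)
  rw [map_mul] at h1
  have h2 : e * (ρ g * ρ b) * e = (e * ρ g * e) * (ρ b * e) := by
    calc e * (ρ g * ρ b) * e = e * ρ g * (ρ b * e) := by simp only [mul_assoc]
      _ = e * ρ g * (e * ρ b) := by rw [hB b hb]
      _ = e * ρ g * (e * (e * ρ b)) := by rw [← mul_assoc e e, hee]
      _ = _ := by rw [← hB b hb]; simp only [mul_assoc]
  rw [h2, hege g, smul_mul_assoc, ← mul_assoc, hege b, smul_smul] at h1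
  exact (smul_left_injective ℂ he0 h1).symm

theorem a_U {u : G} (hu : u ∈ U) : a u = 1 := by
  rw [← a_one h χ hd hdiv]
  show _ = aFun U (χ : G → ℂ) 1
  rw [aFun, aFun]
  congr 1
  refine Fintype.sum_equiv (Equiv.mulLeft (⟨u, hu⟩ : U)) _ _ fun v => ?_
  simp

theorem norm_a_B {b : G} (hb : b ∈ P.B) : ‖a b‖ = 1 := by
  have h1 : ∀ k : ℕ, a (b ^ k) = a b ^ k := by
    intro k
    induction k with
    | zero => rw [pow_zero, pow_zero, a_one h χ hd hdiv]
    | succ k ih => rw [pow_succ, pow_succ, a_mul_right h χ hd hdiv hb, ih]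
  have h2 := h1 (orderOf b)
  rw [pow_orderOf_eq_one, a_one h χ hd hdiv] at h2
  exact Complex.norm_eq_one_of_pow_eq_one h2.symm (orderOf_pos b).ne'

theorem a_conj_torus {n t : G} (hn : n ∈ P.N) (ht : t ∈ P.B ⊓ P.N) (hn0 : a n ≠ 0) :
    a (n * t * n⁻¹) = a t := by
  have h1 := a_mul_left h χ hd hdiv (g := n) (h.toSplit.conj_torus hn ht).1
  rw [inv_mul_cancel_right, a_mul_right h χ hd hdiv ht.1, mul_comm] at h1
  exact (mul_right_cancel₀ hn0 h1).symm

/-- Multiplicativity at a left ascent. -/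
theorem a_S_mul {s n : G} (hs : s ∈ P.S) (hn : n ∈ P.N) (hl : len P n < len P (s * n)) :
    a (s * n) = a s * a n := by
  obtain ⟨V, _, _, _, ρ, e, he0, hfix, hege, htr, hB, hsum, -, -, -⟩ := exists_data h χ hd hdiv
  have h1 : ∀ u : U, e * ρ (s * u * n) * e = a (s * n) • e := by
    intro u
    obtain ⟨w, hw, hw', e1⟩ := exists_transversal h.toSplit hs hn hl
      (smul_mem_sch P (h.le u.2) ⟨n, self_mem_cell P n, rfl⟩)
    have hv : n⁻¹ * (w⁻¹ * u) * n ∈ U :=
      h.toSplit.conj_stab (mul_mem (inv_mem hw) u.2) (by rw [mul_smul, e1, inv_smul_smul])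
    rw [show s * (u : G) * n = s * w * s⁻¹ * (s * n) * (n⁻¹ * (w⁻¹ * u) * n) by group, map_mul,
      map_mul, mul_assoc e, mul_assoc (ρ _ * ρ _), (hfix _ hv).1, mul_assoc (ρ _) (ρ _) e,
      ← mul_assoc e (ρ _), (hfix _ hw').2, ← mul_assoc, hege]
  have h2 : (e * ρ s * e) * (ρ n * e) = a (s * n) • e := by
    rw [hsum s, smul_mul_assoc, Finset.sum_mul, Finset.sum_congr rfl (g := fun _ => a (s * n) • e)
      fun u _ => ?_, Finset.sum_const, Finset.card_univ, ← Nat.card_eq_fintype_card,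
      ← Nat.cast_smul_eq_nsmul ℂ, smul_smul, inv_mul_cancel₀ (by exact_mod_cast Nat.card_pos.ne'),
      one_smul]
    rw [← h1 u, map_mul _ (s * (u : G)) n]
    simp only [mul_assoc]
  rw [hege s, smul_mul_assoc, ← mul_assoc, hege n, smul_smul] at h2
  exact (smul_left_injective ℂ he0 h2).symm

/-- The quadratic relation. -/
theorem a_sq {s : G} : a s * a s = (Nat.card U : ℂ)⁻¹ * ∑ u : U, a (s * u * s) := by
  obtain ⟨V, _, _, _, ρ, e, he0, hfix, hege, htr, hB, hsum, -, -, -⟩ := exists_data h χ hd hdiv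
  have h2 : (e * ρ s * e) * (ρ s * e) = ((Nat.card U : ℂ)⁻¹ * ∑ u : U, a (s * u * s)) • e := by
    rw [hsum s, smul_mul_assoc, Finset.sum_mul, mul_smul, Finset.sum_smul]
    congr 1
    refine Finset.sum_congr rfl fun u _ => ?_
    rw [← hege, map_mul _ (s * (u : G)) s]
    simp only [mul_assoc]
  rw [hege s, smul_mul_assoc, ← mul_assoc, hege s, smul_smul] at h2
  exact smul_left_injective ℂ he0 h2

/-- What the quadratic relation gives. -/
theorem a_S (hrel : Rel P U) {s : G} (hs : s ∈ P.S) :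
    1 ≤ ‖a s‖ * cardC P s ∧ (‖a s‖ * cardC P s = 1 →
      a s * cardC P s = -1 ∧ a (s * s) = 1 ∧
      ∀ u ∈ U, ∀ u₁ ∈ U, ∀ u₂ ∈ U, ∀ t ∈ P.B ⊓ P.N, s * u * s = u₁ * t * s * u₂ → a t = 1) := by
  have hsN := S_mem_N P hs
  set q := cardC P s with hq
  have hq1 : 1 < q := h.one_lt_cardC_S hs
  set St : Subgroup U := MulAction.stabilizer U (s : G ⧸ P.B)
  have hidx : St.index = q := by
    rw [MulAction.index_stabilizer, ← Nat.card_coe_set_eq, ← h.sch_eq_orbit hsN]
    rfl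
  set Fs : Finset U := Finset.univ.filter (fun u => u ∈ St)
  set Rs : Finset U := Finset.univ.filter (fun u => u ∉ St)
  have hFs : Fs.card = Nat.card St := by
    rw [Nat.card_eq_fintype_card, Fintype.card_subtype]
  have hUcard : Nat.card U = Nat.card St * q := by rw [← hidx, St.card_mul_index]
  have hRs : (Rs.card : ℝ) = (Nat.card St : ℝ) * ((q : ℝ) - 1) := by
    have h1 : Fs.card + Rs.card = Nat.card U := by
      rw [Nat.card_eq_fintype_card, ← Finset.card_univ]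
      exact Finset.card_filter_add_card_filter_not _
    rw [hFs, hUcard] at h1
    have : (Nat.card St : ℝ) + Rs.card = Nat.card St * q := by exact_mod_cast h1
    linarith
  have hfixed : ∀ u ∈ Fs, a (s * u * s) = a (s * s) := by
    intro u hu
    have hu' := (Finset.mem_filter.1 hu).2
    have hv : s⁻¹ * (u : G) * s ∈ U := h.toSplit.conj_stab u.2 (MulAction.mem_stabilizer_iff.1 hu')
    rw [show s * (u : G) * s = s * s * (s⁻¹ * u * s) by group,
      a_mul_right h χ hd hdiv (h.le hv), a_U h χ hd hdiv hv, mul_one]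
  have hother : ∀ u ∈ Rs, ∃ η : ℂ, ‖η‖ = 1 ∧ a (s * u * s) = a s * η := by
    intro u hu
    have hu' := (Finset.mem_filter.1 hu).2
    have hg : s * (u : G) * s ∈ cell P s := by
      refine (mul_mem_two P hs (mul_mem_two P hs (Or.inr (self_mem_cell P s)) (Or.inl (h.le u.2)))
        (Or.inr (self_mem_cell P s))).resolve_left fun hB => hu' ?_
      refine MulAction.mem_stabilizer_iff.2 ((QuotientGroup.eq.2 ?_).symm)
      show s⁻¹ * ((u : G) * s) ∈ P.B
      have := mul_mem (inv_mem (P.sq_mem s hs)) hB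
      simpa [mul_assoc] using this
    obtain ⟨b, hb, b', hb', e⟩ := (mem_cell P).1 hg
    refine ⟨a b * a b', by rw [norm_mul, norm_a_B h χ hd hdiv hb, norm_a_B h χ hd hdiv hb', one_mul], ?_⟩
    rw [e, a_mul_right h χ hd hdiv hb', a_mul_left h χ hd hdiv hb]
    ring
  choose! η hη1 hη using hother
  set c := a s * (q : ℂ) with hc
  set L := (∑ u ∈ Rs, η u) / (Nat.card St : ℂ) with hLdef
  have hV0 : (Nat.card St : ℂ) ≠ 0 := by exact_mod_cast Nat.card_pos.ne'
  have hV0' : (0 : ℝ) < Nat.card St := by exact_mod_cast Nat.card_pos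
  have hq0 : (q : ℂ) ≠ 0 := by exact_mod_cast (by omega : q ≠ 0)
  have hquad : c * c = q * a (s * s) + c * L := by
    have e1 : a s * a s = (Nat.card U : ℂ)⁻¹ *
        ((Nat.card St : ℂ) * a (s * s) + a s * ∑ u ∈ Rs, η u) := by
      rw [a_sq h χ hd hdiv, ← Finset.sum_filter_add_sum_filter_not Finset.univ (fun u => u ∈ St)]
      congr 2
      · rw [Finset.sum_congr rfl hfixed, Finset.sum_const, nsmul_eq_mul, hFs]
      · rw [Finset.mul_sum]
        exact Finset.sum_congr rfl hη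
    rw [hUcard, Nat.cast_mul] at e1
    rw [hc, hLdef]
    field_simp at e1 ⊢
    linear_combination e1
  have hl : ‖a (s * s)‖ = 1 := norm_a_B h χ hd hdiv (P.sq_mem s hs)
  have hnL : ‖L‖ = ‖∑ u ∈ Rs, η u‖ / (Nat.card St : ℝ) := by
    rw [hLdef, norm_div, Complex.norm_natCast]
  have hL : ‖L‖ ≤ (q : ℝ) - 1 := by
    rw [hnL, div_le_iff₀ hV0']
    refine (norm_sum_le _ _).trans ?_
    rw [Finset.sum_congr rfl hη1, Finset.sum_const, nsmul_eq_mul, mul_one, hRs, mul_comm]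
  obtain ⟨h1, h2⟩ := one_le_norm_of_quadratic hq1 hl hL hquad
  have hnc : ‖c‖ = ‖a s‖ * (q : ℝ) := by rw [hc, norm_mul, Complex.norm_natCast]
  refine ⟨by rw [← hnc]; exact h1, fun heq => ?_⟩
  obtain ⟨h3, h4⟩ := h2 (hnc.trans heq)
  have hs0 : a s ≠ 0 := by
    intro h0
    rw [h0, norm_zero, zero_mul] at heq
    exact zero_ne_one heq
  have hout : ∀ u ∈ U, ∀ u₁ ∈ U, ∀ u₂ ∈ U, ∀ t ∈ P.B ⊓ P.N, s * u * s = u₁ * t * s * u₂ →
      ∃ hu : u ∈ U, (⟨u, hu⟩ : U) ∈ Rs ∧ η ⟨u, hu⟩ = a t := by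
    intro u hu u₁ hu₁ u₂ hu₂ t ht e
    have hR : (⟨u, hu⟩ : U) ∈ Rs := by
      refine Finset.mem_filter.2 ⟨Finset.mem_univ _, fun hst => ?_⟩
      have hv := h.toSplit.conj_stab hu (MulAction.mem_stabilizer_iff.1 hst)
      have h5 : s * u * s ∈ P.B := by
        rw [show s * u * s = s * s * (s⁻¹ * u * s) by group]
        exact mul_mem (P.sq_mem s hs) (h.le hv)
      have h6 : (u₁ * t)⁻¹ * (s * u * s) * u₂⁻¹ ∈ P.B :=
        mul_mem (mul_mem (inv_mem (mul_mem (h.le hu₁) ht.1)) h5) (inv_mem (h.le hu₂))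
      rw [e, show (u₁ * t)⁻¹ * (u₁ * t * s * u₂) * u₂⁻¹ = s by group] at h6
      exact S_not_mem_B P hs h6
    refine ⟨hu, hR, mul_left_cancel₀ hs0 ?_⟩
    rw [← hη _ hR]
    show aFun U (χ : G → ℂ) (s * u * s) = _
    rw [e, a_mul_right h χ hd hdiv (h.le hu₂), a_U h χ hd hdiv hu₂, mul_one,
      a_mul_left h χ hd hdiv (mul_mem (h.le hu₁) ht.1), a_mul_left h χ hd hdiv (h.le hu₁),
      a_U h χ hd hdiv hu₁, one_mul, mul_comm]
  obtain ⟨u, hu, u₁, hu₁, u₂, hu₂, e⟩ := hrel.one s hs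
  obtain ⟨hu', hR, hη0⟩ := hout u hu u₁ hu₁ u₂ hu₂ 1 (one_mem _) (by rw [e, mul_one])
  rw [a_one h χ hd hdiv] at hη0
  have hall : ∀ v ∈ Rs, η v = 1 := by
    refine norm_sum_lt_or_eq Rs η hη1 ?_ hR hη0
    rw [hnL, div_eq_iff hV0'.ne'] at h3
    rw [h3, hRs, mul_comm]
  have hLq : L = (q : ℂ) - 1 := by
    have hRs' : (Rs.card : ℂ) = (Nat.card St : ℂ) * ((q : ℂ) - 1) := by
      have h7 := congrArg (fun x : ℝ => (x : ℂ)) hRs
      push_cast at h7
      exact h7
    rw [hLdef, Finset.sum_congr rfl hall, Finset.sum_const, nsmul_eq_mul, mul_one, hRs',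
      mul_div_assoc, mul_comm, div_mul_cancel₀ _ hV0]
  obtain ⟨h5, h6⟩ := h4 hLq
  refine ⟨h5, h6, fun u hu u₁ hu₁ u₂ hu₂ t ht e => ?_⟩
  obtain ⟨_, hR', hη'⟩ := hout u hu u₁ hu₁ u₂ hu₂ t ht e
  rw [← hη', hall _ hR']

theorem one_le_norm_a (hrel : Rel P U) : ∀ (k : ℕ), ∀ n ∈ P.N, len P n = k →
    1 ≤ ‖a n‖ * cardC P n := by
  intro k
  induction k with
  | zero =>
    intro n hn hk
    have hB := (len_eq_zero P hn).1 hk
    rw [norm_a_B h χ hd hdiv hB, cardC_congr P (n := n) (n' := 1) (by simpa [Eqv] using inv_mem hB),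
      cardC_one]
    simp
  | succ k ih =>
    intro n hn hk
    obtain ⟨s, hs, m, hm, hl, he⟩ := exists_first P hn (by omega)
    have hsm := P.N.mul_mem (S_mem_N P hs) hm
    have hls : len P m < len P (s * m) := by rw [len_congr P he]; omega
    rw [show n = s * m * ((s * m)⁻¹ * n) by group, a_mul_right h χ hd hdiv he, norm_mul,
      norm_a_B h χ hd hdiv he, mul_one, a_S_mul h χ hd hdiv hs hm hls, norm_mul,
      show s * m * ((s * m)⁻¹ * n) = n by group, ← cardC_congr P he,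
      cardC_S_mul h.toSplit hs hm hls, Nat.cast_mul]
    nlinarith [ih m hm (by omega), (a_S h χ hd hdiv hrel hs).1]

theorem norm_a_cell {n g : G} (hg : g ∈ cell P n) : ‖a g‖ = ‖a n‖ := by
  obtain ⟨b, hb, b', hb', rfl⟩ := (mem_cell P).1 hg
  rw [a_mul_right h χ hd hdiv hb', a_mul_left h χ hd hdiv hb, norm_mul, norm_mul,
    norm_a_B h χ hd hdiv hb, norm_a_B h χ hd hdiv hb', one_mul, mul_one]

theorem sum_normSq_a : ∑ g, ((‖a g‖ ^ 2 : ℝ) : ℂ) = (Nat.card G : ℂ) / Nat.card U := by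
  obtain ⟨V, _, _, _, ρ, e, he0, hfix, hege, htr, hB, hsum, ht1, htre, hsch⟩ :=
    exists_data h χ hd hdiv
  have hconj : ∀ g, conj (a g) = a g⁻¹ := by
    intro g
    rw [aFun, aFun, map_mul, map_inv₀, map_natCast, map_sum]
    congr 1
    have hcl := CharCore.irr_isClassFunction χ
    refine Fintype.sum_equiv (Equiv.inv U) _ _ fun u => ?_
    rw [BlocksCore.conj_irr, mul_inv_rev, Equiv.inv_apply, Subgroup.coe_inv,
      ← hcl (g⁻¹ * (u : G)⁻¹) (u : G)⁻¹]
    congr 1
    group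
  have e1 : ∀ g, ((‖a g‖ ^ 2 : ℝ) : ℂ) • e = e * (ρ g * e * ρ g⁻¹) * e := by
    intro g
    rw [← Complex.normSq_eq_norm_sq, ← Complex.mul_conj, hconj]
    calc (a g * a g⁻¹) • e = a g • (e * ρ g⁻¹ * e) := by rw [hege, smul_smul]
      _ = a g • (e * (ρ g⁻¹ * e)) := by rw [mul_assoc]
      _ = (e * ρ g * e) * (ρ g⁻¹ * e) := by rw [← smul_mul_assoc, hege]
      _ = _ := by simp only [mul_assoc]
  have hee : e * e = e := by
    have := hege 1
    rwa [map_one, mul_one, a_one h χ hd hdiv, one_smul] at this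
  have h2 := congrArg (fun f => e * f * e) hsch
  simp only [Finset.mul_sum, Finset.sum_mul, mul_smul_comm, smul_mul_assoc, mul_one, hee] at h2
  rw [← Finset.sum_congr rfl fun g _ => e1 g, ← Finset.sum_smul] at h2
  exact smul_left_injective ℂ he0 h2

theorem eq_sum_a (g : G) : (χ : G → ℂ) g =
    (Nat.card U : ℂ) / Nat.card G * ∑ x, a (x⁻¹ * g * x) := by
  obtain ⟨V, _, _, _, ρ, e, he0, hfix, hege, htr, hB, hsum, ht1, htre, hsch⟩ :=
    exists_data h χ hd hdiv
  have h2 := congrArg (fun f => LinearMap.trace ℂ V (ρ g * f)) hsch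
  simp only [mul_smul_comm, mul_one, map_smul, htr, smul_eq_mul, Finset.mul_sum, map_sum] at h2
  have e1 : ∀ x, LinearMap.trace ℂ V (ρ g * (ρ x * e * ρ x⁻¹)) = a (x⁻¹ * g * x) := by
    intro x
    rw [← mul_assoc, LinearMap.trace_mul_comm, ← mul_assoc (ρ g), ← mul_assoc, ← map_mul, ← map_mul,
      htre, ← mul_assoc]
  rw [Finset.sum_congr rfl fun x _ => e1 x] at h2
  rw [h2]
  have hG : (Nat.card G : ℂ) ≠ 0 := by exact_mod_cast Nat.card_pos.ne'
  have hU : (Nat.card U : ℂ) ≠ 0 := by exact_mod_cast Nat.card_pos.ne'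
  field_simp

omit hd hdiv in
theorem sum_phi_sq : ∑ g : G, phi P g * phi P g = (Nat.card G : ℂ) / Nat.card U := by
  have h1 : ∑ g : G, phi P g * phi P g = (Nat.card P.B : ℂ) * normSq P := by
    rw [normSq, ← Fintype.sum_fiberwise (fun g : G => (g : G ⧸ P.B)) (fun g => phi P g * phi P g),
      Finset.mul_sum]
    refine Finset.sum_congr rfl fun y _ => ?_
    rw [Finset.sum_congr rfl (g := fun _ => phiX P y * phiX P y) fun g _ => ?_, Finset.sum_const,
      Finset.card_univ, nsmul_eq_mul, ← Nat.card_eq_fintype_card]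
    · congr 2
      rw [← mul_one (Nat.card P.B)]
      refine (Nat.card_congr ((QuotientGroup.preimageMkEquivSubgroupProdSet P.B {y}))).trans ?_
      simp
    · rw [(congrArg (phiX P) g.2).symm.trans (phiX_mk P g.1)]
  have h2 : (stChar P 1 : ℂ) = (normSq P)⁻¹ * (P.B.index : ℂ) := by
    rw [stChar_eq, Finset.sum_congr rfl (g := fun _ => (1 : ℂ)) fun x _ => ?_]
    · simp [Subgroup.index, Nat.card_eq_fintype_card]
    · rw [one_smul, ker, inv_mul_cancel, phi_one]
  rw [h.stChar_one] at h2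
  have hU : (Nat.card U : ℂ) ≠ 0 := by exact_mod_cast Nat.card_pos.ne'
  have hN := normSq_ne_zero P
  have h3 : normSq P * (Nat.card U : ℂ) = (P.B.index : ℂ) := by
    rw [h2, ← mul_assoc, mul_inv_cancel₀ hN, one_mul]
  rw [h1, eq_div_iff hU, mul_assoc, h3, ← Nat.cast_mul, P.B.card_mul_index]

theorem norm_a_eq (hrel : Rel P U) {n : G} (hn : n ∈ P.N) : ‖a n‖ * cardC P n = 1 := by
  have hphi : ∀ g : G, ((‖phi P g‖ ^ 2 : ℝ) : ℂ) = phi P g * phi P g := by
    intro g
    rw [← Complex.normSq_eq_norm_sq, ← Complex.mul_conj, phi, Complex.conj_ofReal]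
  have h1 : ∑ g, ((‖a g‖ ^ 2 : ℝ) : ℂ) = ∑ g, ((‖phi P g‖ ^ 2 : ℝ) : ℂ) := by
    rw [sum_normSq_a h χ hd hdiv, Finset.sum_congr rfl fun g _ => hphi g, sum_phi_sq h]
  rw [← Complex.ofReal_sum, ← Complex.ofReal_sum, Complex.ofReal_inj] at h1
  have hle : ∀ g, ‖phi P g‖ ^ 2 ≤ ‖a g‖ ^ 2 := by
    intro g
    obtain ⟨m, hm, hg⟩ := exists_cell P g
    rw [norm_a_cell h χ hd hdiv hg, phi_of_mem P hm hg, norm_div, norm_pow, norm_neg, norm_one,
      one_pow, Complex.norm_natCast]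
    have h3 : (0 : ℝ) < cardC P m := by exact_mod_cast cardC_pos P m
    refine pow_le_pow_left₀ (by positivity) ?_ 2
    rw [div_le_iff₀ h3]
    exact one_le_norm_a h χ hd hdiv hrel _ m hm rfl
  have h2 := (Finset.sum_eq_sum_iff_of_le fun g _ => hle g).1 h1.symm n (Finset.mem_univ _)
  have h3 : (0 : ℝ) < cardC P n := by exact_mod_cast cardC_pos P n
  rw [phi_of_mem P hn (self_mem_cell P n), norm_div, norm_pow, norm_neg, norm_one, one_pow,
    Complex.norm_natCast, pow_left_inj₀ (by positivity) (norm_nonneg _) two_ne_zero,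
    div_eq_iff h3.ne'] at h2
  exact h2.symm

theorem a_eq_phi (hrel : Rel P U) (g : G) : a g = phi P g := by
  have hS := fun s (hs : s ∈ P.S) => (a_S h χ hd hdiv hrel hs).2
    (norm_a_eq h χ hd hdiv hrel (S_mem_N P hs))
  have hT : ∀ t ∈ P.B ⊓ P.N, a t = 1 := by
    let K : Subgroup G :=
      { carrier := {t | t ∈ P.B ⊓ P.N ∧ a t = 1}
        one_mem' := ⟨one_mem _, a_one h χ hd hdiv⟩
        mul_mem' := fun {x y} hx hy => ⟨mul_mem hx.1 hy.1, by
          rw [a_mul_left h χ hd hdiv hx.1.1, hx.2, hy.2, one_mul]⟩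
        inv_mem' := fun {x} hx => ⟨inv_mem hx.1, by
          have := a_mul_left h χ hd hdiv (g := x⁻¹) hx.1.1
          rw [mul_inv_cancel, a_one h χ hd hdiv, hx.2, one_mul] at this
          exact this.symm⟩ }
    have hle : P.B ⊓ P.N ≤ K := by
      refine hrel.gen K ?_ ?_ ?_
      · intro n hn t ht htK
        refine ⟨h.toSplit.conj_torus hn ht, ?_⟩
        rw [a_conj_torus h χ hd hdiv hn ht ?_, htK.2]
        intro h0
        have := norm_a_eq h χ hd hdiv hrel hn
        rw [h0, norm_zero, zero_mul] at this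
        exact zero_ne_one this
      · intro s hs
        exact ⟨⟨P.sq_mem s hs, P.N.mul_mem (S_mem_N P hs) (S_mem_N P hs)⟩, (hS s hs).2.1⟩
      · intro s hs u hu u₁ hu₁ u₂ hu₂ t ht e
        exact ⟨ht, (hS s hs).2.2 u hu u₁ hu₁ u₂ hu₂ t ht e⟩
    exact fun t ht => (hle ht).2
  have hB : ∀ b ∈ P.B, a b = 1 := by
    intro b hb
    obtain ⟨u, hu, t, ht, rfl⟩ := h.decomp b hb
    rw [a_mul_left h χ hd hdiv (h.le hu), a_U h χ hd hdiv hu, hT t ht, one_mul]
  suffices ∀ k, ∀ n ∈ P.N, len P n = k → a n = (-1) ^ k / cardC P n by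
    obtain ⟨n, hn, hg⟩ := exists_cell P g
    rw [phi_of_mem P hn hg]
    obtain ⟨b, hb, b', hb', rfl⟩ := (mem_cell P).1 hg
    rw [a_mul_right h χ hd hdiv hb', a_mul_left h χ hd hdiv hb, hB b hb, hB b' hb', one_mul,
      mul_one, this _ n hn rfl]
  intro k
  induction k with
  | zero =>
    intro n hn hk
    have hnB := (len_eq_zero P hn).1 hk
    rw [hB n hnB, cardC_congr P (n := n) (n' := 1) (by simpa [Eqv] using inv_mem hnB), cardC_one]
    simp
  | succ k ih =>
    intro n hn hk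
    obtain ⟨s, hs, m, hm, hl, he⟩ := exists_first P hn (by omega)
    have hls : len P m < len P (s * m) := by rw [len_congr P he]; omega
    have e : a n = a (s * m) := by
      conv_lhs => rw [show n = s * m * ((s * m)⁻¹ * n) by group]
      rw [a_mul_right h χ hd hdiv he, hB _ he, mul_one]
    rw [e, a_S_mul h χ hd hdiv hs hm hls, ih m hm (by omega), ← cardC_congr P he,
      cardC_S_mul h.toSplit hs hm hls, pow_succ]
    have h1 := (hS s hs).1
    have hq : (cardC P s : ℂ) ≠ 0 := by exact_mod_cast (cardC_pos P s).ne'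
    have hm0 : (cardC P m : ℂ) ≠ 0 := by exact_mod_cast (cardC_pos P m).ne'
    push_cast
    field_simp
    linear_combination h1

omit h χ hd hdiv

/-- The Steinberg character is the only irreducible character of defect zero. -/
theorem eq_stChar (h : Split2 P p U) (hrel : Rel P U) (χ : Cfsg.IrrCharacter G)
    (hd : p ^ (Nat.card G).factorization p ∣ Cfsg.charDegree (χ : G → ℂ)) :
    (χ : G → ℂ) = stChar P := by
  obtain ⟨h1, h2⟩ := degree_eq h χ hd
  set χ₀ : Cfsg.IrrCharacter G := ⟨stChar P, isIrrCharacter_stChar P⟩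
  have hd0 : Cfsg.charDegree (χ₀ : G → ℂ) = Nat.card U := by
    show ⌊(stChar P 1).re⌋₊ = _
    rw [h.stChar_one]
    simp
  have h20 : ¬ p ∣ Nat.card G / Cfsg.charDegree (χ₀ : G → ℂ) := hd0 ▸ h.not_dvd_card_div
  funext g
  show (χ : G → ℂ) g = (χ₀ : G → ℂ) g
  rw [eq_sum_a h χ h1 h2 g, eq_sum_a h χ₀ hd0 h20 g]
  simp only [a_eq_phi h χ h1 h2 hrel, a_eq_phi h χ₀ hd0 h20 hrel]

end Cfsg.Agent.Steinberg
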