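import Cfsg.Agent.Lib.Steinberg.Alternating
import Cfsg.Agent.Lib.Steinberg.Split
import Cfsg.Agent.Lib.Steinberg.Unique
import Cfsg.Agent.Lib.ChevCore.Models
import Cfsg.Agent.Lib.ChevCore.Parabolic
import Cfsg.Agent.Lib.ChevCore.UStruct
import Cfsg.Agent.Lib.ChevCore.SepAll
import Cfsg.Agent.Lib.ChevCore.TorusCard

/-!
# Chevalley groups as split (B,N)-pairs
-/

set_option autoImplicit false

namespace Cfsg.Agent.Steinberg

open Cfsg.Lie Cfsg.Agent.ChevCore Cfsg.Agent.ChevGroup

universe u

variable {D : ChevalleyDatum} {F : Type u} [Field F] [Fintype F]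

/-- The multiplicative form of the order of the diagonal subgroup: no prime divisor of `q`. -/
theorem not_dvd_card_diagonal (hD : D ∈ [chevG2, chevB2, chevD4, chevF4, chevE6, chevE7, chevE8])
    (p : ℕ) [hp : Fact p.Prime] [CharP F p] : ¬ p ∣ Nat.card (D.diagonalSubgroup F) := by
  obtain ⟨k, -, hk⟩ := FiniteField.card F p
  have hd : ∃ c r, c * Nat.card (D.diagonalSubgroup F) = (Fintype.card F - 1) ^ r := by
    simp only [List.mem_cons, List.not_mem_nil, or_false] at hD
    rcases hD with rfl | rfl | rfl | rfl | rfl | rfl | rfl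
    exacts [⟨_, _, card_diagonalG2⟩, ⟨_, _, card_diagonalB2⟩, ⟨_, _, card_diagonalD4⟩,
      ⟨_, _, card_diagonalF4⟩, ⟨_, _, card_diagonalE6⟩, ⟨_, _, card_diagonalE7⟩,
      ⟨_, _, card_diagonalE8⟩]
  obtain ⟨c, r, hcr⟩ := hd
  intro hdvd
  have h1 : p ∣ (Fintype.card F - 1) := hp.out.dvd_of_dvd_pow (hcr ▸ dvd_mul_of_dvd_right hdvd c)
  have h2 : p ∣ Fintype.card F := hk ▸ dvd_pow_self p k.pos.ne'
  have h3 : 0 < Fintype.card F := Fintype.card_pos
  have h4 := Nat.dvd_sub h2 h1
  rw [Nat.sub_sub_self h3] at h4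
  exact hp.out.not_dvd_one h4

/-- Data attached to a Chevalley group. -/
theorem exists_chev (hD : D ∈ [chevG2, chevB2, chevD4, chevF4, chevE6, chevE7, chevE8]) :
    ∃ (P : Cfsg.BNPair ↥(D.group F)) (U : Subgroup ↥(D.group F)),
      P.B = (D.borelSubgroup F).subgroupOf (D.group F) ∧
      P.B ⊓ P.N = (D.diagonalSubgroup F).subgroupOf (D.group F) ∧
      U = (D.posUnipotent F).subgroupOf (D.group F) ∧
      Nat.card U = Fintype.card F ^ (D.nroots / 2) ∧
      (∀ (p : ℕ) [Fact p.Prime] [CharP F p], Split P p U) ∧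
      (∀ (p : ℕ) [Fact p.Prime] [CharP F p] [Fintype ↥(D.group F)],
        Split2 P p U ∧ Rel P U) ∧
      ∀ [Fintype ↥(D.group F)], D.steinbergCharacter F = altSum P := by
  classical
  obtain ⟨T, ⟨wit, hwit⟩, w, hw⟩ := exists_model hD
  have hC := commGood_of_mem hD
  set K := Cfsg.Agent.Chev54.rels hC F
  set R := T.rel K with hR
  set M := T.shapeR K with hM
  have hxne : ∀ r t, R.x r t = 1 → t = 0 := fun r t => T.x_ne _ r t
  have hinj : Function.Injective T.S.simple := fun i j h => Fin.ext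
    (hC.toGood.simple_inj (T.lt_l i) (T.lt_l j) (by rw [← T.simple_eq, ← T.simple_eq, h]))
  obtain ⟨P, hB, hN, hS⟩ := exists_bnPair M hxne (T.group_top K hwit) hinj
  have hsub : ∀ (K' : Subgroup ↥(D.group F)) (L : Subgroup (GL D.Idx F)),
      K'.map (D.group F).subtype = L → K' = L.subgroupOf (D.group F) := by
    rintro K' _ rfl
    rw [Subgroup.subgroupOf, Subgroup.comap_map_eq_self_of_injective Subtype.coe_injective]
  have hBmap : P.B = (D.borelSubgroup F).subgroupOf (D.group F) := by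
    rw [hB]; exact hsub _ _ (T.B_map K)
  have hU : R.U = (D.posUnipotent F).subgroupOf (D.group F) := hsub _ _ (T.U_map K)
  have hH : P.B ⊓ P.N = R.H := by
    refine le_antisymm (fun g hg => B_inter_engN M hxne (hB ▸ hg.1) (hN ▸ hg.2)) ?_
    rw [hB, hN]
    exact le_inf R.H_le_B (H_le_engN R)
  have hcard : Nat.card R.U = Fintype.card F ^ (D.nroots / 2) := by
    rw [← T.card_U_eq K]
    exact (uGood_of_mem hD).card_posUnipotent
  have hsplit : ∀ (p : ℕ) [Fact p.Prime] [CharP F p], Split P p R.U := by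
    intro p hp _
    refine ⟨hB ▸ R.U_le_B, ?_, ?_, ?_, ?_, ?_⟩
    · intro b hb u hu
      rw [hB] at hb
      obtain ⟨v, hv, h, hh, rfl⟩ := R.mem_B_iff.1 hb
      have h1 : h * u * h⁻¹ ∈ R.U :=
        (Subgroup.mem_normalizer_iff.1 (R.H_le_normalizer_U hh) u).1 hu
      rw [show v * h * u * (v * h)⁻¹ = v * (h * u * h⁻¹) * v⁻¹ by group]
      exact mul_mem (mul_mem hv h1) (inv_mem hv)
    · obtain ⟨k, -, hk⟩ := FiniteField.card F p
      refine IsPGroup.of_card (n := (k : ℕ) * (D.nroots / 2)) ?_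
      rw [hcard, hk, pow_mul]
    · intro b hb
      rw [hB] at hb
      obtain ⟨v, hv, h, hh, rfl⟩ := R.mem_B_iff.1 hb
      exact ⟨v, hv, h, hH ▸ hh, rfl⟩
    · rw [hH, ← T.card_H_eq K]
      exact not_dvd_card_diagonal hD p
    · refine ⟨R.nw w, hN ▸ nw_mem_engN R w, ?_⟩
      have hlow : ∀ u ∈ R.U, Uni (fun a => -M.key a) (M.mat ((R.nw w)⁻¹ * u * R.nw w)) := by
        intro u hu
        induction hu using Subgroup.closure_induction'' with
        | mem g hg =>
          obtain ⟨r, t, hr, rfl⟩ := hg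
          obtain ⟨e, he⟩ := R.nw_inv_conj_x w r t
          rw [he, ← T.S.neg_neg (T.S.actw w.reverse r)]
          exact M.uni_neg _ _ (T.longest_neg hw r hr)
        | inv_mem g hg =>
          obtain ⟨r, t, hr, rfl⟩ := hg
          obtain ⟨e, he⟩ := R.nw_inv_conj_x w r (-t)
          rw [← R.x_neg, he, ← T.S.neg_neg (T.S.actw w.reverse r)]
          exact M.uni_neg _ _ (T.longest_neg hw r hr)
        | one =>
          simp only [mul_one, inv_mul_cancel]
          rw [M.mat_one]; intro a b _; simp [Matrix.one_apply]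
        | mul g h _ _ hg hh =>
          have e : (R.nw w)⁻¹ * (g * h) * R.nw w =
              ((R.nw w)⁻¹ * g * R.nw w) * ((R.nw w)⁻¹ * h * R.nw w) := by group
          rw [e, M.mat_mul]; exact hg.mul hh
      refine Nat.card_le_card_of_injective
        (fun u : R.U => (⟨((u.1 * R.nw w : ↥(D.group F)) : ↥(D.group F) ⧸ P.B),
          (mk_mem_sch P).2 (BN.mul_mem_cell_left P (hB ▸ R.U_le_B u.2) (BN.self_mem_cell P _))⟩ :
          sch P (R.nw w))) ?_
      rintro ⟨u, hu⟩ ⟨u', hu'⟩ h
      simp only [Subtype.mk.injEq] at h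
      rw [QuotientGroup.eq] at h
      refine Subtype.ext ?_
      have e : (u * R.nw w)⁻¹ * (u' * R.nw w) = (R.nw w)⁻¹ * (u⁻¹ * u') * R.nw w := by group
      rw [e, hB] at h
      have h1 := M.tri_of_B h
      have h2 := hlow _ (mul_mem (inv_mem hu) hu')
      have h3 : (R.nw w)⁻¹ * (u⁻¹ * u') * R.nw w = 1 := by
        refine M.eq_one ?_
        ext a b
        rcases eq_or_ne a b with rfl | hab
        · rw [h2 a a le_rfl]; simp
        · rcases le_total (M.key a) (M.key b) with hk | hk
          · rw [h1.1 a b hab hk]; simp [hab]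
          · rw [h2 a b (neg_le_neg hk)]; simp [hab]
      have h4 : u⁻¹ * u' = 1 := by
        have := congrArg (fun g => R.nw w * g * (R.nw w)⁻¹) h3
        simpa [mul_assoc] using this
      exact inv_mul_eq_one.1 h4
  refine ⟨P, R.U, hBmap, by rw [hH]; exact hsub _ _ (T.H_map K), hU, hcard, hsplit, ?_, ?_⟩
  rotate_left
  · intro _
    funext g
    have hnz : ∀ i j : Fin T.tab.l, R.n i = R.n j → i = j := by
      intro i j e
      have h1 := P.inj (R.n i) (hS ▸ ⟨i, rfl⟩) (R.n j) (hS ▸ ⟨j, rfl⟩)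
      by_contra hij
      have e1 := congrArg (fun g : ↥(D.group F) => (M.mat g)) e
      have h2 := M.mono_word_ne [i] (T.S.simple i)
      have h3 := M.mono_word [j] (T.S.simple i) (M.e (T.S.actw [i] (T.S.simple i))) ?_
      · rw [R.nw_cons, R.nw_nil, mul_one] at h2 h3
        exact h2 (e ▸ h3)
      · simp only [RootIdx.actw_cons, RootIdx.actw_nil, T.S.refl_simple]
        intro he
        have h4 := M.e_inj he
        have hp := T.S.refl_pos j _ (T.S.simple_pos i) (fun h => hij (hinj h))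
        rw [← h4] at hp
        exact T.S.not_pos_neg _ (T.S.simple_pos i) hp
    let ι : Fin T.tab.l ↪ ↥(D.group F) := ⟨R.n, fun i j e => hnz i j e⟩
    have hfin : (Set.toFinite P.S).toFinset = Finset.univ.map ι := by
      ext x
      simp only [Set.Finite.mem_toFinset, hS, Set.mem_range, Finset.mem_map, Finset.mem_univ, true_and]
      exact Iff.rfl
    have hpar : ∀ J : Finset (Fin T.tab.l),
        P.parabolic (↑(J.map ι) : Set ↥(D.group F)) =
          D.parabolicIn F (J.map ⟨Fin.val, Fin.val_injective⟩) := by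
      intro J
      refine hsub _ _ ?_
      rw [Cfsg.BNPair.parabolic, Subgroup.map_sup, hB, T.B_map, hC.toGood.parabolic_gen,
        MonoidHom.map_closure]
      congr 2
      ext x
      constructor
      · rintro ⟨_, hy, rfl⟩
        obtain ⟨i, hi, rfl⟩ := Finset.mem_map.1 hy
        exact ⟨i.val, Finset.mem_coe.2 (Finset.mem_map.2 ⟨i, hi, rfl⟩), T.lt_l i,
          val_engine_n T hC i⟩
      · rintro ⟨j, hj, -, rfl⟩
        obtain ⟨i, hi, rfl⟩ := Finset.mem_map.1 (Finset.mem_coe.1 hj)
        exact ⟨_, Finset.mem_map.2 ⟨i, hi, rfl⟩, val_engine_n T hC i⟩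
    have hrange : Finset.range D.rank =
        (Finset.univ : Finset (Fin T.tab.l)).map ⟨Fin.val, Fin.val_injective⟩ := by
      ext x
      simp only [Finset.mem_range, Finset.mem_map, Finset.mem_univ, true_and, Function.Embedding.coeFn_mk]
      exact ⟨fun h => ⟨⟨x, T.l_eq.symm ▸ h⟩, rfl⟩, fun ⟨i, hi⟩ => hi ▸ T.lt_l i⟩
    have hpow : ∀ {β : Type u} (f : Fin T.tab.l ↪ β),
        ((Finset.univ : Finset (Fin T.tab.l)).map f).powerset =
          (Finset.univ : Finset (Fin T.tab.l)).powerset.map (Finset.mapEmbedding f).toEmbedding := by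
      intro β f
      ext t
      simp only [Finset.mem_powerset, Finset.mem_map, RelEmbedding.coe_toEmbedding,
        Finset.mapEmbedding_apply, Finset.subset_map_iff]
      exact ⟨fun ⟨u, hu, e⟩ => ⟨u, hu, e.symm⟩, fun ⟨u, hu, e⟩ => ⟨u, hu, e.symm⟩⟩
    have hpow' : (Finset.range D.rank).powerset = (Finset.univ : Finset (Fin T.tab.l)).powerset.map
        (Finset.mapEmbedding ⟨Fin.val, Fin.val_injective⟩).toEmbedding := by
      rw [hrange]
      ext t
      simp only [Finset.mem_powerset, Finset.mem_map, RelEmbedding.coe_toEmbedding,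
        Finset.mapEmbedding_apply, Finset.subset_map_iff]
      exact ⟨fun ⟨u, hu, e⟩ => ⟨u, hu, e.symm⟩, fun ⟨u, hu, e⟩ => ⟨u, hu, e.symm⟩⟩
    rw [ChevalleyDatum.steinbergCharacter, altSum, hfin, hpow ι, hpow', Finset.sum_map,
      Finset.sum_map]
    refine Finset.sum_congr rfl fun J _ => ?_
    simp only [RelEmbedding.coe_toEmbedding, Finset.mapEmbedding_apply, Finset.card_map, hpar J]
  · intro p hp _ _
    refine ⟨{ toSplit := hsplit p, comm := ?_, normal := ?_ }, ?_⟩
    · intro t ht t' ht'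
      rw [hH] at ht ht'
      refine M.mat_inj ?_
      rw [M.mat_mul, M.mat_mul]
      ext a b
      rw [Matrix.mul_apply, Matrix.mul_apply]
      refine Finset.sum_congr rfl fun c _ => ?_
      rcases eq_or_ne a c with rfl | hac
      · rcases eq_or_ne a b with rfl | hab
        · exact mul_comm _ _
        · rw [M.diag_of_H ht' a b hab, M.diag_of_H ht a b hab, mul_zero, mul_zero]
      · rw [M.diag_of_H ht a c hac, M.diag_of_H ht' a c hac, zero_mul, zero_mul]
    · intro s hs u hu v hv hfix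
      rw [hS] at hs
      obtain ⟨i, rfl⟩ := hs
      have hstab : ∀ v ∈ R.U,
          (v • ((R.n i : ↥(D.group F)) : ↥(D.group F) ⧸ P.B) =
            ((R.n i : ↥(D.group F)) : ↥(D.group F) ⧸ P.B)) ↔ v ∈ R.Ui i := by
        intro v hv
        have key : v • ((R.n i : ↥(D.group F)) : ↥(D.group F) ⧸ P.B) =
            ((R.n i : ↥(D.group F)) : ↥(D.group F) ⧸ P.B) ↔ (R.n i)⁻¹ * v⁻¹ * R.n i ∈ R.B := by
          show ((v * R.n i : ↥(D.group F)) : ↥(D.group F) ⧸ P.B) = _ ↔ _
          rw [QuotientGroup.eq, hB, mul_inv_rev]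
        rw [key]
        constructor
        · intro hfx
          obtain ⟨u', hu', t, he⟩ := R.U_decomp i (inv_mem hv)
          suffices ht : t = 0 by
            rw [ht, R.x_zero, mul_one] at he
            rw [← inv_inv v, he]
            exact inv_mem hu'
          by_contra ht
          have h1 : (R.n i)⁻¹ * R.x (T.S.simple i) t * R.n i ∈ R.B := by
            have h2 := mul_mem (inv_mem (R.U_le_B (R.Ui_le_U i (R.n_inv_conj_Ui i hu')))) hfx
            rw [he] at h2
            simpa [mul_assoc] using h2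
          have h3 : R.n i * R.x (T.S.simple i) t * (R.n i)⁻¹ ∈ R.B := by
            have e : R.n i * R.x (T.S.simple i) t * (R.n i)⁻¹ = (R.n i * R.n i) *
                ((R.n i)⁻¹ * R.x (T.S.simple i) t * R.n i) * (R.n i * R.n i)⁻¹ := by group
            rw [e]
            exact mul_mem (mul_mem (R.H_le_B (R.n_sq_mem_H i)) h1)
              (inv_mem (R.H_le_B (R.n_sq_mem_H i)))
          rw [R.n_conj', T.S.refl_simple] at h3
          exact neg_simple_not_mem_B M hxne i (mul_ne_zero (R.sgn_ne_zero i _) ht) h3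
        · intro hv'
          exact R.U_le_B (R.Ui_le_U i (R.n_inv_conj_Ui i (inv_mem hv')))
      rw [hstab _ (mul_mem (mul_mem hu hv) (inv_mem hu))]
      obtain ⟨u', hu', t, rfl⟩ := R.U_decomp i hu
      have hv' := (hstab v hv).1 hfix
      rw [show u' * R.x (T.S.simple i) t * v * (u' * R.x (T.S.simple i) t)⁻¹ =
        u' * (R.x (T.S.simple i) t * v * (R.x (T.S.simple i) t)⁻¹) * u'⁻¹ by group]
      exact mul_mem (mul_mem hu' (R.x_conj_Ui i t hv')) (inv_mem hu')
    · have hrank : ∀ i c, c ≠ 0 → ∃ u ∈ R.U, ∃ u₁ ∈ R.U, ∃ u₂ ∈ R.U,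
          R.n i * u * R.n i =
            u₁ * (R.hr (T.S.simple i) c * (R.n i * R.n i)) * R.n i * u₂ := by
        intro i c hc
        have hpos := T.S.simple_pos i
        set r := T.S.simple i with hr
        have hsig := R.sgn_ne_zero i r
        refine ⟨R.x r (R.sgn i r * -c⁻¹), R.x_mem_U hpos _, R.x r (-c), R.x_mem_U hpos _,
          (R.n i * R.n i)⁻¹ * R.x r (-c) * (R.n i * R.n i), ?_, ?_⟩
        · have h1 := R.H_le_normalizer_U (inv_mem (R.n_sq_mem_H i))
          have h2 := (Subgroup.mem_normalizer_iff.1 h1 _).1 (R.x_mem_U hpos (-c))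
          simpa [mul_assoc] using h2
        have e1 : R.n i * R.x r (R.sgn i r * -c⁻¹) * (R.n i)⁻¹ = R.x (T.S.neg r) (-c⁻¹) := by
          rw [R.n_conj', hr, T.S.refl_simple, ← mul_assoc, R.sgn_sq, one_mul]
        have e3 : R.x r c * R.x (T.S.neg r) (-c⁻¹) * R.x r c = R.hr r c * R.n i := R.nr_eq r c
        have e2 : R.x (T.S.neg r) (-c⁻¹) = R.x r (-c) * (R.hr r c * R.n i) * R.x r (-c) := by
          rw [← e3, R.x_neg r c]
          group
        calc R.n i * R.x r (R.sgn i r * -c⁻¹) * R.n i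
            = R.n i * R.x r (R.sgn i r * -c⁻¹) * (R.n i)⁻¹ * (R.n i * R.n i) := by group
          _ = R.x (T.S.neg r) (-c⁻¹) * (R.n i * R.n i) := by rw [e1]
          _ = _ := by rw [e2]; group
      refine ⟨?_, ?_⟩
      · intro s hs
        rw [hS] at hs
        obtain ⟨i, rfl⟩ := hs
        obtain ⟨u, hu, u₁, hu₁, u₂, hu₂, e⟩ := hrank i (-1) (neg_ne_zero.2 one_ne_zero)
        refine ⟨u, hu, u₁, hu₁, u₂, hu₂, ?_⟩
        have e' : R.hr (T.S.simple i) (-1) = (R.n i * R.n i)⁻¹ := by
          show R.nr _ (-1) * R.nr _ (-1) = _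
          rw [← R.nr_inv, mul_inv_rev]
          rfl
        rw [e', inv_mul_cancel, mul_one] at e
        exact e
      · intro L hconj hsq hrel
        rw [hH]
        have hbase : ∀ i c, c ≠ 0 → R.hr (T.S.simple i) c ∈ L := by
          intro i c hc
          obtain ⟨u, hu, u₁, hu₁, u₂, hu₂, e⟩ := hrank i c hc
          have hmemS : R.n i ∈ P.S := hS ▸ ⟨i, rfl⟩
          have h1 := hrel (R.n i) hmemS u hu u₁ hu₁ u₂ hu₂ _
            (hH ▸ mul_mem (R.hr_mem_H hc) (R.n_sq_mem_H i)) e
          exact (Subgroup.mul_mem_cancel_right L (hsq (R.n i) hmemS)).1 h1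
        have hstep : ∀ i r, (∀ c, c ≠ 0 → R.hr r c ∈ L) →
            ∀ c, c ≠ 0 → R.hr (T.S.refl i r) c ∈ L := by
          intro i r hr c hc
          have hσ := R.sgn_ne_zero i r
          have hmemN : R.n i ∈ P.N := hN ▸ n_mem_engN R i
          have key : ∀ d, d ≠ 0 → R.hr (T.S.refl i r) (R.sgn i r * d) *
              (R.hr (T.S.refl i r) (R.sgn i r))⁻¹ ∈ L := by
            intro d hd
            rw [← R.n_conj_hr]
            exact hconj _ hmemN _ (hH ▸ R.hr_mem_H hd) (hr d hd)
          have h1 := key (R.sgn i r) hσ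
          rw [R.sgn_sq] at h1
          have e1 : R.hr (T.S.refl i r) 1 = 1 := by
            show R.nr _ 1 * R.nr _ (-1) = 1
            rw [← R.nr_inv, mul_inv_cancel]
          rw [e1, one_mul] at h1
          have h2 := key (R.sgn i r * c) (mul_ne_zero hσ hc)
          rw [← mul_assoc, R.sgn_sq, one_mul] at h2
          exact (Subgroup.mul_mem_cancel_right L h1).1 h2
        have hword : ∀ w : List ℕ, (∀ i ∈ w, i < D.rank) → ∀ i : Fin T.tab.l,
            ∃ r : Fin T.tab.n, r.val = actW D w (D.simple i.val) ∧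
              ∀ c, c ≠ 0 → R.hr r c ∈ L := by
          intro w
          induction w with
          | nil => intro _ i; exact ⟨T.S.simple i, T.simple_eq i, hbase i⟩
          | cons j w ih =>
            intro hw i
            obtain ⟨r, hr, hrL⟩ := ih (fun a ha => hw a (List.mem_cons_of_mem _ ha)) i
            refine ⟨T.S.refl ⟨j, T.l_eq.symm ▸ hw j List.mem_cons_self⟩ r, ?_, hstep _ _ hrL⟩
            rw [T.refl_eq, hr]
            rfl
        refine (Subgroup.closure_le _).2 ?_
        rintro _ ⟨r, c, hc, rfl⟩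
        obtain ⟨w, hw, i, hi, e⟩ := hC.toGood.exists_word (T.lt r)
        obtain ⟨r', hr', hr'L⟩ := hword w hw ⟨i, T.l_eq.symm ▸ hi⟩
        rw [show r = r' from Fin.ext (by rw [hr', e])]
        exact hr'L c hc

end Cfsg.Agent.Steinberg
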