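import Cfsg.Agent.Lib.Steinberg.Spherical
import Cfsg.Prelude.Def_ParabolicCharacters
import Mathlib.GroupTheory.GroupAction.Quotient

/-!
# The alternating sum of the parabolic permutation characters is the Steinberg character
-/

set_option autoImplicit false
set_option linter.unusedSectionVars false

namespace Cfsg.Agent.Steinberg

open Cfsg.Agent.BN
open scoped ComplexConjugate Classical

variable {G : Type*} [Group G] [Fintype G] (P : Cfsg.BNPair G)

/-- The alternating sum of the permutation characters on the parabolic subgroups. -/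
noncomputable def altSum (g : G) : ℂ :=
  ∑ J ∈ (Set.toFinite P.S).toFinset.powerset,
    (-1 : ℂ) ^ J.card * Cfsg.fixedPointCharacter (P.parabolic (↑J : Set G)) g

theorem conj_altSum (g : G) : conj (altSum P g) = altSum P g := by
  simp [altSum, Cfsg.fixedPointCharacter, map_sum]

theorem subset_S_of_mem {J : Finset G} (h : J ∈ (Set.toFinite P.S).toFinset.powerset) :
    (↑J : Set G) ⊆ P.S := fun _ hx => (Set.Finite.mem_toFinset _).1 (Finset.mem_powerset.1 h hx)

theorem stChar_isClassFunction : Cfsg.IsClassFunction G (stChar P) :=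
  CharCore.IsCharacter.isClassFunction (CharCore.isCharacter_character _)

theorem ker_mem (x : G ⧸ P.B) : (fun y => ker P x y) ∈ stMod P := by
  intro s hs g
  refine Eq.trans (Finset.sum_congr rfl fun z _ => ?_) (phiX_mem P s hs (x.out⁻¹ * g))
  show ker P x (g • z) = _
  rw [ker_eq_phiX, smul_smul]

theorem sum_stChar_subgroup {J : Set G} (hJ : J ⊆ P.S) :
    ∑ h : P.parabolic J, stChar P (h : G) =
      if J = ∅ then (Nat.card P.B : ℂ) else 0 := by
  classical
  have hf : ∀ x : G ⧸ P.B, ∀ y : G ⧸ P.B,
      (∑ h : P.parabolic J, ker P x ((h : G) • y)) =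
        (∑ h : P.parabolic J, ker P x ((h : G) • ((1 : G) : G ⧸ P.B))) * phiX P y := by
    intro x y
    refine eq_smul_phiX P (f := fun y => ∑ h : P.parabolic J, ker P x ((h : G) • y)) ?_ ?_ y
    · intro s hs g
      rw [Finset.sum_comm]
      refine Finset.sum_eq_zero fun h _ => ?_
      refine Eq.trans (Finset.sum_congr rfl fun z _ => ?_) (ker_mem P x s hs ((h : G) * g))
      rw [smul_smul]
    · intro b hb z
      refine Fintype.sum_equiv (Equiv.mulRight (⟨b, B_le_parabolic P J hb⟩ : P.parabolic J)) _ _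
        fun h => ?_
      simp [smul_smul]
  simp only [stChar_eq, ← Finset.mul_sum]
  rw [Finset.sum_comm, Finset.sum_congr rfl fun x _ => hf x x]
  by_cases h0 : J = ∅
  · subst h0
    rw [if_pos rfl]
    have hB : P.parabolic (∅ : Set G) = P.B := by simp [Cfsg.BNPair.parabolic]
    have h1 : ∀ x : G ⧸ P.B,
        (∑ h : P.parabolic (∅ : Set G), ker P x ((h : G) • ((1 : G) : G ⧸ P.B))) =
          (Nat.card P.B : ℂ) * phiX P x := by
      intro x
      rw [Finset.sum_congr rfl (g := fun _ => phiX P x) fun h _ => ?_, Finset.sum_const,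
        Finset.card_univ, nsmul_eq_mul, ← Nat.card_eq_fintype_card]
      · exact congrArg (fun t : ℕ => (t : ℂ) * phiX P x) (by rw [hB])
      · have e : (h : G) • ((1 : G) : G ⧸ P.B) = ((1 : G) : G ⧸ P.B) := by
          rw [smul_mk_one]
          refine QuotientGroup.eq.2 ?_
          simpa using hB ▸ h.2
        rw [e, ker_comm]
        conv_lhs => rw [← QuotientGroup.out_eq' x]
        rw [ker_mk, inv_one, one_mul]
        rfl
    simp only [h1, mul_assoc, ← Finset.mul_sum]
    rw [show ∑ x, phiX P x * phiX P x = normSq P from rfl, mul_comm (Nat.card P.B : ℂ),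
      ← mul_assoc, inv_mul_cancel₀ (normSq_ne_zero P), one_mul]
  · rw [if_neg h0]
    refine mul_eq_zero_of_right _ (Finset.sum_eq_zero fun x _ => ?_)
    obtain ⟨s, hs⟩ := Set.nonempty_iff_ne_empty.2 h0
    have hsS := hJ hs
    have e : (∑ h : P.parabolic J, ker P x ((h : G) • (s : G ⧸ P.B))) =
        ∑ h : P.parabolic J, ker P x ((h : G) • ((1 : G) : G ⧸ P.B)) := by
      refine Fintype.sum_equiv (Equiv.mulRight (⟨s, mem_parabolic_of_mem P hs⟩ : P.parabolic J)) _ _
        fun h => ?_
      simp [smul_smul, smul_mk_one]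
    rw [hf x (s : G ⧸ P.B)] at e
    have hne : phiX P (s : G ⧸ P.B) ≠ 1 := by
      rw [phiX_mk, phi_of_mem P (S_mem_N P hsS) (self_mem_cell P s), len_S P hsS]
      intro h
      rw [div_eq_one_iff_eq (by exact_mod_cast (cardC_pos P s).ne')] at h
      have h2 : ((cardC P s : ℂ)).re = ((-1 : ℂ) ^ 1).re := by rw [h]
      have h3 : (0 : ℝ) < cardC P s := by exact_mod_cast cardC_pos P s
      simp at h2
      linarith
    have h0' : (∑ h : P.parabolic J, ker P x ((h : G) • ((1 : G) : G ⧸ P.B))) = 0 := by
      by_contra hc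
      exact hne (mul_left_cancel₀ hc (e.trans (mul_one _).symm))
    rw [h0', zero_mul]

theorem sum_classFunction_perm (H : Subgroup G) {f : G → ℂ}
    (hf : ∀ g h : G, f (h * g * h⁻¹) = f g) :
    ∑ g, f g * Cfsg.fixedPointCharacter H g = (H.index : ℂ) * ∑ h : H, f h := by
  classical
  letI : Fintype (G ⧸ H) := Fintype.ofFinite _
  have h1 : ∀ g, Cfsg.fixedPointCharacter H g = ∑ y : G ⧸ H, if g • y = y then (1 : ℂ) else 0 := by
    intro g
    rw [Finset.sum_boole, Cfsg.fixedPointCharacter, Nat.card_eq_fintype_card,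
      Fintype.card_of_subtype]
    intro y
    simp [MulAction.mem_fixedBy]
  simp only [h1, Finset.mul_sum, mul_ite, mul_one, mul_zero]
  rw [Finset.sum_comm, Finset.sum_congr rfl (g := fun _ => ∑ h : H, f h) fun y _ => ?_,
    Finset.sum_const, Finset.card_univ, nsmul_eq_mul, Subgroup.index, Nat.card_eq_fintype_card]
  · rw [Finset.mul_sum]
  have key : ∀ g : G, g • y = y ↔ y.out⁻¹ * g * y.out ∈ H := by
    intro g
    rw [← inv_mem_iff, show (y.out⁻¹ * g * y.out)⁻¹ = (g * y.out)⁻¹ * y.out by group,
      ← QuotientGroup.eq, QuotientGroup.out_eq']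
    exact Iff.of_eq (congrArg (· = y) (congrArg (g • ·) (QuotientGroup.out_eq' y).symm))
  have key' : ∀ h : H, y.out⁻¹ * (y.out * (h : G) * y.out⁻¹) * y.out ∈ H := fun h => by
    convert h.2 using 1; group
  rw [← Finset.sum_filter]
  refine Finset.sum_nbij' (fun g => if hg : y.out⁻¹ * g * y.out ∈ H then (⟨_, hg⟩ : H) else 1)
    (fun h => y.out * (h : G) * y.out⁻¹) (fun g _ => Finset.mem_univ _) ?_ ?_ ?_ ?_
  · intro h _
    simp only [Finset.mem_filter, Finset.mem_univ, true_and]
    exact (key _).2 (key' h)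
  · intro g hg
    simp only [Finset.mem_filter, Finset.mem_univ, true_and, key] at hg
    simp only [dif_pos hg]
    group
  · intro h _
    simp only [dif_pos (key' h)]
    exact Subtype.ext (by group)
  · intro g hg
    simp only [Finset.mem_filter, Finset.mem_univ, true_and, key] at hg
    simp only [dif_pos hg]
    have := hf g y.out⁻¹
    rw [inv_inv] at this
    exact this.symm

theorem sum_stChar_altSum : ∑ g, stChar P g * altSum P g = (Nat.card G : ℂ) := by
  classical
  simp only [altSum, Finset.mul_sum]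
  rw [Finset.sum_comm, Finset.sum_eq_single_of_mem (∅ : Finset G) (Finset.empty_mem_powerset _)]
  · simp only [Finset.card_empty, pow_zero, one_mul]
    rw [sum_classFunction_perm _ (stChar_isClassFunction P),
      sum_stChar_subgroup P (by simp), if_pos (by simp), ← Nat.cast_mul]
    have hB : P.parabolic ((∅ : Finset G) : Set G) = P.B := by simp [Cfsg.BNPair.parabolic]
    rw [hB, mul_comm, Subgroup.card_mul_index]
  · intro J hJ hne
    simp only [mul_left_comm]
    rw [← Finset.mul_sum, sum_classFunction_perm _ (stChar_isClassFunction P),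
      sum_stChar_subgroup P (subset_S_of_mem P hJ), if_neg (by simpa using hne), mul_zero, mul_zero]

/-- The double cosets of `B`, as the elements of the Weyl group. -/
abbrev Wt : Type _ := {C : Set G // ∃ n ∈ P.N, C = cell P n}

/-- A representative in `N`. -/
noncomputable def wrep (C : Wt P) : G := C.2.choose

theorem wrep_mem (C : Wt P) : wrep P C ∈ P.N := C.2.choose_spec.1

theorem wrep_eq (C : Wt P) : (C : Set G) = cell P (wrep P C) := C.2.choose_spec.2

theorem gate_congr {K J : Set G} (hK : K ⊆ P.S) (hJ : J ⊆ P.S) {n n' : G} (hn : n ∈ P.N)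
    (hn' : n' ∈ P.N) (h : Eqv P n n') (hg : Gate P K J n) : Gate P K J n' := by
  refine ⟨fun s hs => ?_, fun s hs => ?_⟩
  · rw [← len_congr P h, ← len_congr P (eqv_mul_left P s h)]
    exact hg.1 s hs
  · rw [← len_congr P h, ← len_congr P (eqv_mul_right P h hn hn' (S_mem_N P (hJ hs)))]
    exact hg.2 s hs

/-- The orbits on pairs of cosets of parabolic subgroups are parametrized by gates. -/
theorem card_orbits_eq_card_gates {K J : Set G} (hK : K ⊆ P.S) (hJ : J ⊆ P.S) :
    Nat.card (Quotient (MulAction.orbitRel G ((G ⧸ P.parabolic K) × (G ⧸ P.parabolic J)))) =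
      Nat.card {C : Wt P // Gate P K J (wrep P C)} := by
  symm
  refine Nat.card_eq_of_bijective (fun C => Quotient.mk''
    (((1 : G) : G ⧸ P.parabolic K), ((wrep P C.1 : G) : G ⧸ P.parabolic J))) ⟨?_, ?_⟩
  · rintro ⟨C, hC⟩ ⟨C', hC'⟩ h
    obtain ⟨g, hg⟩ := MulAction.orbitRel_apply.1 (Quotient.exact' h)
    have h1 : g ∈ P.parabolic K := by
      have h1 : ((g * 1 : G) : G ⧸ P.parabolic K) = ((1 : G) : G ⧸ P.parabolic K) :=
        congrArg Prod.fst hg
      simpa using QuotientGroup.eq.1 h1.symm
    have h2 : (g * wrep P C')⁻¹ * wrep P C ∈ P.parabolic J :=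
      QuotientGroup.eq.1 (congrArg Prod.snd hg)
    have h3 := (existsUnique_gate P hK hJ (wrep_mem P C)).2 _ (wrep_mem P C') _ (wrep_mem P C)
      hC' hC ⟨g, h1, _, h2, by group⟩
    exact Subtype.ext (Subtype.ext ((wrep_eq P C).trans
      ((cell_congr P h3).trans (wrep_eq P C').symm)))
  · intro q
    induction q using Quotient.inductionOn' with
    | h yz =>
      obtain ⟨y, z⟩ := yz
      induction y using QuotientGroup.induction_on with
      | H a =>
        induction z using QuotientGroup.induction_on with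
        | H c =>
          obtain ⟨n, hn, hx⟩ := exists_cell P (a⁻¹ * c)
          obtain ⟨β, hβ, β', hβ', hx'⟩ := (mem_cell P).1 hx
          obtain ⟨v, hv, hgv, p, hp, q, hq, hvq⟩ := (existsUnique_gate P hK hJ hn).1
          have hCv : ∃ m ∈ P.N, cell P v = cell P m := ⟨v, hv, rfl⟩
          set C : Wt P := ⟨cell P v, hCv⟩ with hC
          have he : Eqv P v (wrep P C) :=
            eqv_of_cell_eq P hv (wrep_mem P C) (wrep_eq P C)
          refine ⟨⟨C, gate_congr P hK hJ hv (wrep_mem P C) he hgv⟩, ?_⟩
          refine Quotient.sound' (MulAction.orbitRel_apply.2 ⟨p * β⁻¹ * a⁻¹, ?_⟩)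
          refine Prod.ext ?_ ?_
          · show ((p * β⁻¹ * a⁻¹ * a : G) : G ⧸ P.parabolic K) = ((1 : G) : G ⧸ P.parabolic K)
            refine (QuotientGroup.eq.2 ?_).symm
            have e : (1 : G)⁻¹ * (p * β⁻¹ * a⁻¹ * a) = p * β⁻¹ := by group
            rw [e]
            exact mul_mem hp (inv_mem (B_le_parabolic P K hβ))
          · show ((p * β⁻¹ * a⁻¹ * c : G) : G ⧸ P.parabolic J) =
              ((wrep P C : G) : G ⧸ P.parabolic J)
            refine QuotientGroup.eq.2 ?_
            have e : (p * β⁻¹ * a⁻¹ * c)⁻¹ * wrep P C = β'⁻¹ * q * (v⁻¹ * wrep P C) := by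
              rw [show p * β⁻¹ * a⁻¹ * c = p * β⁻¹ * (a⁻¹ * c) by group, hx', hvq]
              group
            rw [e]
            exact mul_mem (mul_mem (inv_mem (B_le_parabolic P J hβ')) hq)
              (B_le_parabolic P J he)

theorem sum_perm_perm {K J : Set G} (hK : K ⊆ P.S) (hJ : J ⊆ P.S) :
    ∑ g, Cfsg.fixedPointCharacter (P.parabolic K) g * Cfsg.fixedPointCharacter (P.parabolic J) g =
      (Nat.card {C : Wt P // Gate P K J (wrep P C)} : ℂ) * Nat.card G := by
  classical
  rw [← card_orbits_eq_card_gates P hK hJ]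
  letI : ∀ g : G, Fintype (MulAction.fixedBy ((G ⧸ P.parabolic K) × (G ⧸ P.parabolic J)) g) :=
    fun g => Fintype.ofFinite _
  letI : Fintype (Quotient (MulAction.orbitRel G ((G ⧸ P.parabolic K) × (G ⧸ P.parabolic J)))) :=
    Fintype.ofFinite _
  have h := MulAction.sum_card_fixedBy_eq_card_orbits_mul_card_group G
    ((G ⧸ P.parabolic K) × (G ⧸ P.parabolic J))
  rw [Nat.card_eq_fintype_card, Nat.card_eq_fintype_card, ← Nat.cast_mul]
  refine Eq.trans ?_ (congrArg Nat.cast h)
  rw [Nat.cast_sum]
  refine Finset.sum_congr rfl fun g _ => ?_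
  rw [Cfsg.fixedPointCharacter, Cfsg.fixedPointCharacter, ← Nat.cast_mul, ← Nat.card_prod,
    ← Nat.card_eq_fintype_card]
  refine congrArg Nat.cast (Nat.card_congr
    { toFun := fun p => ⟨((p.1 : G ⧸ P.parabolic K), (p.2 : G ⧸ P.parabolic J)),
        Prod.ext p.1.2 p.2.2⟩
      invFun := fun p => (⟨p.1.1, congrArg Prod.fst p.2⟩, ⟨p.1.2, congrArg Prod.snd p.2⟩)
      left_inv := fun p => rfl
      right_inv := fun p => rfl })

theorem sum_neg_one_pow_subsets (D : Finset G) (p : G → Prop) :
    ∑ K ∈ D.powerset, (if ∀ s ∈ K, p s then (-1 : ℂ) ^ K.card else 0) =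
      if ∀ s ∈ D, ¬ p s then 1 else 0 := by
  classical
  refine (Finset.sum_filter (fun K : Finset G => ∀ s ∈ K, p s) fun K => (-1 : ℂ) ^ K.card).symm.trans ?_
  have e : D.powerset.filter (fun K => ∀ s ∈ K, p s) = (D.filter p).powerset := by
    ext K
    simp only [Finset.mem_filter, Finset.mem_powerset, Finset.subset_iff]
    exact ⟨fun h x hx => ⟨h.1 hx, h.2 x hx⟩, fun h => ⟨fun x hx => (h hx).1, fun x hx => (h hx).2⟩⟩
  rw [e]
  have hh : (∑ m ∈ (D.filter p).powerset, (-1 : ℤ) ^ m.card) = if D.filter p = ∅ then 1 else 0 :=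
    Finset.sum_powerset_neg_one_pow_card
  have hh' := congrArg (fun z : ℤ => (z : ℂ)) hh
  push_cast at hh'
  rw [hh']
  by_cases h : ∀ s ∈ D, ¬ p s
  · rw [if_pos h, if_pos (Finset.filter_eq_empty_iff.2 h)]
  · rw [if_neg h, if_neg (fun e => h (Finset.filter_eq_empty_iff.1 e))]

theorem sum_altSum_altSum : ∑ g, altSum P g * altSum P g = (Nat.card G : ℂ) := by
  classical
  letI : Fintype (Wt P) := Fintype.ofFinite _
  set D := (Set.toFinite P.S).toFinset with hD
  have e : ∑ g, altSum P g * altSum P g = ∑ K ∈ D.powerset, ∑ J ∈ D.powerset,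
      ∑ C : Wt P, (if Gate P (↑K : Set G) (↑J : Set G) (wrep P C) then
        (-1 : ℂ) ^ K.card * (-1) ^ J.card else 0) * Nat.card G := by
    simp only [altSum, Finset.sum_mul_sum, ← hD]
    rw [Finset.sum_comm]
    refine Finset.sum_congr rfl fun K hK => ?_
    rw [Finset.sum_comm]
    refine Finset.sum_congr rfl fun J hJ => ?_
    rw [← Finset.sum_mul]
    simp only [mul_mul_mul_comm ((-1 : ℂ) ^ K.card)]
    rw [← Finset.mul_sum, sum_perm_perm P (subset_S_of_mem P hK) (subset_S_of_mem P hJ),
      Nat.card_eq_fintype_card, Fintype.card_subtype, ← Finset.sum_boole, ← mul_assoc,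
      Finset.mul_sum]
    simp only [mul_ite, mul_one, mul_zero]
  rw [e]
  simp only [← Finset.sum_mul]
  rw [Finset.sum_congr rfl fun K _ => Finset.sum_comm, Finset.sum_comm]
  have h2 : ∀ C : Wt P, (∑ K ∈ D.powerset, ∑ J ∈ D.powerset,
      if Gate P (↑K : Set G) (↑J : Set G) (wrep P C) then
        (-1 : ℂ) ^ K.card * (-1) ^ J.card else 0) =
      if Full P (wrep P C) then 1 else 0 := by
    intro C
    have hv := wrep_mem P C
    calc _ = (∑ K ∈ D.powerset, if ∀ s ∈ K, len P (wrep P C) < len P (s * wrep P C) then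
            (-1 : ℂ) ^ K.card else 0) * ∑ J ∈ D.powerset,
            if ∀ s ∈ J, len P (wrep P C) < len P (wrep P C * s) then (-1 : ℂ) ^ J.card else 0 := by
          rw [Finset.sum_mul_sum]
          refine Finset.sum_congr rfl fun K _ => Finset.sum_congr rfl fun J _ => ?_
          simp only [Gate, Finset.mem_coe, ite_and]
          split_ifs <;> simp
      _ = _ := by
          have hA : (∑ K ∈ D.powerset, if ∀ s ∈ K, len P (wrep P C) < len P (s * wrep P C) then
              (-1 : ℂ) ^ K.card else 0) =
              if ∀ s ∈ D, ¬ len P (wrep P C) < len P (s * wrep P C) then 1 else 0 := by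
            convert sum_neg_one_pow_subsets D (fun s => len P (wrep P C) < len P (s * wrep P C))
          have hB : (∑ J ∈ D.powerset, if ∀ s ∈ J, len P (wrep P C) < len P (wrep P C * s) then
              (-1 : ℂ) ^ J.card else 0) =
              if ∀ s ∈ D, ¬ len P (wrep P C) < len P (wrep P C * s) then 1 else 0 := by
            convert sum_neg_one_pow_subsets D (fun s => len P (wrep P C) < len P (wrep P C * s))
          rw [hA, hB]
          by_cases hF : Full P (wrep P C)
          · have hw := eqv_w0_of_full P hv hF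
            rw [if_pos, if_pos, if_pos hF, one_mul]
            · intro s hs h
              rw [len_congr P hw] at h
              have hsS := (Set.Finite.mem_toFinset _).1 hs
              exact absurd h (not_lt.2 (len_le_w0 P (P.N.mul_mem hv (S_mem_N P hsS))))
            · intro s hs h
              exact absurd h (not_lt.2 (hF s ((Set.Finite.mem_toFinset _).1 hs)).le)
          · rw [if_neg hF, if_neg, zero_mul]
            intro h
            refine hF fun s hs => ?_
            exact lt_of_le_of_ne (not_lt.1 (h s ((Set.Finite.mem_toFinset _).2 hs)))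
              (len_S_mul_ne P hs hv)
  rw [Finset.sum_congr rfl fun C _ => h2 C]
  have hmem : ∃ n ∈ P.N, cell P (w0 P) = cell P n := ⟨_, w0_mem P, rfl⟩
  set C0 : Wt P := ⟨cell P (w0 P), hmem⟩ with hC0
  rw [Finset.sum_eq_single_of_mem C0 (Finset.mem_univ _), if_pos, one_mul]
  · intro s hs
    have he : Eqv P (w0 P) (wrep P C0) :=
      eqv_of_cell_eq P (w0_mem P) (wrep_mem P C0) (wrep_eq P C0)
    rw [← len_congr P he, ← len_congr P (eqv_mul_left P s he)]
    exact full_w0 P s hs
  · intro C _ hne
    rw [if_neg]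
    intro hF
    exact hne (Subtype.ext ((wrep_eq P C).trans
      (cell_congr P (eqv_w0_of_full P (wrep_mem P C) hF))))

theorem sum_stChar_stChar : ∑ g, stChar P g * stChar P g = (Nat.card G : ℂ) := by
  classical
  have h := CharCore.classInner_irr_self (⟨stChar P, isIrrCharacter_stChar P⟩ : Cfsg.IrrCharacter G)
  rw [CharCore.classInner_def] at h
  have h0 : (Nat.card G : ℂ) ≠ 0 := by exact_mod_cast Nat.card_pos.ne'
  rw [inv_mul_eq_div, div_eq_one_iff_eq h0] at h
  rw [← h]
  exact Finset.sum_congr rfl fun g _ => congrArg (stChar P g * ·) (stChar_real P g).symm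

/-- The alternating sum is the Steinberg character. -/
theorem altSum_eq_stChar : altSum P = stChar P := by
  classical
  have h : ∑ g, (altSum P g - stChar P g) * (altSum P g - stChar P g) = 0 := by
    simp only [sub_mul, mul_sub, Finset.sum_sub_distrib]
    rw [sum_altSum_altSum, sum_stChar_stChar, sum_stChar_altSum,
      Finset.sum_congr rfl fun g _ => mul_comm (altSum P g) (stChar P g), sum_stChar_altSum]
    ring
  funext g
  have hre : ∀ x, (((altSum P x - stChar P x).re : ℝ) : ℂ) = altSum P x - stChar P x := fun x =>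
    Complex.conj_eq_iff_re.1 (by rw [map_sub, conj_altSum, stChar_real])
  rw [Finset.sum_congr rfl fun x _ => show (altSum P x - stChar P x) * (altSum P x - stChar P x) =
    ((((altSum P x - stChar P x).re * (altSum P x - stChar P x).re : ℝ)) : ℂ) by
      push_cast; rw [hre], ← Complex.ofReal_sum, Complex.ofReal_eq_zero] at h
  have := (Finset.sum_eq_zero_iff_of_nonneg fun x _ => mul_self_nonneg _).1 h g (Finset.mem_univ _)
  rw [mul_self_eq_zero] at this
  rw [← sub_eq_zero, ← hre g, this, Complex.ofReal_zero]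

theorem isIrrCharacter_altSum : Cfsg.IsIrrCharacter G (altSum P) := by
  rw [altSum_eq_stChar]
  exact isIrrCharacter_stChar P

end Cfsg.Agent.Steinberg
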