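import Cfsg.Agent.Lib.Steinberg.SplitTwo
import Cfsg.Agent.BlockAlg8.Projective
import Mathlib.RepresentationTheory.Basic
import Mathlib.LinearAlgebra.Eigenspace.Triangularizable

/-!
# Small invariant subspaces of representations in the defining characteristic

Every nonzero invariant space contains a nonzero invariant one of dimension at most `|U|`.
-/

set_option autoImplicit false
set_option linter.unusedSectionVars false

namespace Cfsg.Agent.Steinberg

open Cfsg.Agent.BN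
open scoped Classical

variable {G : Type*} [Group G] [Fintype G] {P : Cfsg.BNPair G} {p : ℕ} [hp : Fact p.Prime]
  {U : Subgroup G}

/-- What is used besides `Split`. -/
structure Split2 (P : Cfsg.BNPair G) (p : ℕ) (U : Subgroup G) : Prop extends Split P p U where
  comm : ∀ t ∈ P.B ⊓ P.N, ∀ t' ∈ P.B ⊓ P.N, t * t' = t' * t
  normal : ∀ s ∈ P.S, ∀ u ∈ U, ∀ v ∈ U, v • (s : G ⧸ P.B) = (s : G ⧸ P.B) →
    (u * v * u⁻¹) • (s : G ⧸ P.B) = (s : G ⧸ P.B)

variable {k : Type*} [Field k] {V : Type*} [AddCommGroup V] [Module k V]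
  (h : Split2 P p U) (ρ : Representation k G V)

/-- Fixed by `U`, common eigenvector of the torus. -/
def Good (P : Cfsg.BNPair G) (U : Subgroup G) (ρ : Representation k G V) (w : V) : Prop :=
  (∀ u ∈ U, ρ u w = w) ∧ ∀ t ∈ P.B ⊓ P.N, ∃ c : k, ρ t w = c • w

/-- The choice of a member of `U` carrying `nB` to a coset of the cell of `n`. -/
noncomputable def upick (P : Cfsg.BNPair G) (U : Subgroup G) (n : G) (y : G ⧸ P.B) : G :=
  if e : ∃ u ∈ U, y = u • (n : G ⧸ P.B) then e.choose else 1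

include h

theorem upick_mem (n : G) (y : G ⧸ P.B) : upick P U n y ∈ U := by
  rw [upick]
  split
  · next e => exact e.choose_spec.1
  · exact U.one_mem

theorem upick_smul {n : G} (hn : n ∈ P.N) {y : G ⧸ P.B} (hy : y ∈ sch P n) :
    y = upick P U n y • (n : G ⧸ P.B) := by
  rw [upick, dif_pos (h.exists_smul hn hy)]
  exact (h.exists_smul hn hy).choose_spec.2

variable {ρ}

theorem mul_apply' (a b : G) (v : V) : ρ (a * b) v = ρ a (ρ b v) := by
  rw [map_mul, Module.End.mul_apply]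

theorem vec_eq {w : V} (hw : ∀ u ∈ U, ρ u w = w) {n u u' : G} (hu : u ∈ U) (hu' : u' ∈ U)
    (e : u • (n : G ⧸ P.B) = u' • (n : G ⧸ P.B)) : ρ (u * n) w = ρ (u' * n) w := by
  have h1 : n⁻¹ * (u'⁻¹ * u) * n ∈ U :=
    h.toSplit.conj_stab (mul_mem (inv_mem hu') hu) (by rw [mul_smul, e, inv_smul_smul])
  conv_lhs => rw [show u * n = u' * n * (n⁻¹ * (u'⁻¹ * u) * n) by group]
  rw [mul_apply' h, hw _ h1]

omit h in
/-- The sum over a cell. -/
noncomputable def Z (P : Cfsg.BNPair G) (U : Subgroup G) (ρ : Representation k G V) (n : G) :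
    V →ₗ[k] V :=
  ∑ y : sch P n, ρ (upick P U n (y : G ⧸ P.B) * n)

omit h in
theorem Z_apply (n : G) (w : V) :
    Z P U ρ n w = ∑ y : sch P n, ρ (upick P U n (y : G ⧸ P.B) * n) w := by
  simp [Z, LinearMap.sum_apply]

theorem Z_one {w : V} (hw : ∀ u ∈ U, ρ u w = w) : Z P U ρ 1 w = w := by
  have hone : (1 : G) • ((1 : G) : G ⧸ P.B) = ((1 : G) : G ⧸ P.B) := one_smul _ _
  have hu : Unique (sch P 1) := by rw [sch_one]; exact Set.uniqueSingleton _
  rw [Z_apply, Fintype.sum_unique, mul_one, hw _ (upick_mem h _ _)]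

theorem Z_fixed {w : V} (hw : ∀ u ∈ U, ρ u w = w) {n : G} (hn : n ∈ P.N) {v : G} (hv : v ∈ U) :
    ρ v (Z P U ρ n w) = Z P U ρ n w := by
  rw [Z_apply, map_sum]
  refine Fintype.sum_bijective (fun y : sch P n =>
    (⟨v • (y : G ⧸ P.B), smul_mem_sch P (h.le hv) y.2⟩ : sch P n))
    ((Finite.injective_iff_bijective).1 fun y y' e => Subtype.ext
      (smul_left_cancel v (congrArg Subtype.val e))) _ _ fun y => ?_
  rw [← mul_apply' h, ← mul_assoc]
  refine vec_eq h hw (mul_mem hv (upick_mem h _ _)) (upick_mem h _ _) ?_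
  rw [mul_smul, ← upick_smul h hn y.2,
    ← upick_smul h hn (smul_mem_sch P (h.le hv) y.2)]

theorem Z_good {w : V} (hw : Good P U ρ w) {n : G} (hn : n ∈ P.N) :
    Good P U ρ (Z P U ρ n w) := by
  refine ⟨fun v hv => Z_fixed h hw.1 hn hv, fun t ht => ?_⟩
  obtain ⟨c, hc⟩ := hw.2 (n⁻¹ * t * n) (h.toSplit.inv_conj_torus hn ht)
  refine ⟨c, ?_⟩
  rw [Z_apply, map_sum, Finset.smul_sum]
  refine Fintype.sum_bijective (fun y : sch P n =>
    (⟨t • (y : G ⧸ P.B), smul_mem_sch P ht.1 y.2⟩ : sch P n))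
    ((Finite.injective_iff_bijective).1 fun y y' e => Subtype.ext
      (smul_left_cancel t (congrArg Subtype.val e))) _ _ fun y => ?_
  set u := upick P U n (y : G ⧸ P.B)
  have hu : t * u * t⁻¹ ∈ U := h.conj t ht.1 u (upick_mem h _ _)
  rw [← mul_apply' h, show t * (u * n) = t * u * t⁻¹ * n * (n⁻¹ * t * n) by group,
    mul_apply' h, hc, map_smul]
  congr 1
  refine vec_eq h hw.1 hu (upick_mem h _ _) ?_
  rw [← upick_smul h hn (smul_mem_sch P ht.1 y.2)]
  show (t * u * t⁻¹) • (n : G ⧸ P.B) = t • (y : G ⧸ P.B)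
  conv_rhs => rw [upick_smul h hn y.2]
  rw [mul_smul, mul_smul, h.torus_smul hn (inv_mem ht)]

theorem Z_congr {w : V} (hw : Good P U ρ w) {n n' : G} (hn : n ∈ P.N) (hn' : n' ∈ P.N)
    (he : Eqv P n n') : ∃ c : k, Z P U ρ n' w = c • Z P U ρ n w := by
  obtain ⟨c, hc⟩ := hw.2 (n⁻¹ * n') ⟨he, P.N.mul_mem (P.N.inv_mem hn) hn'⟩
  refine ⟨c, ?_⟩
  rw [Z_apply, Z_apply, Finset.smul_sum]
  refine Fintype.sum_equiv (Equiv.setCongr (sch_congr P he).symm) _ _ fun y => ?_
  have hy : (y : G ⧸ P.B) ∈ sch P n := by rw [sch_congr P he]; exact y.2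
  conv_lhs =>
    rw [show upick P U n' (y : G ⧸ P.B) * n' = upick P U n' (y : G ⧸ P.B) * n * (n⁻¹ * n') by group]
  rw [mul_apply' h, hc, map_smul]
  congr 1
  refine vec_eq h hw.1 (upick_mem h _ _) (upick_mem h _ _) ?_
  show _ = upick P U n (y : G ⧸ P.B) • (n : G ⧸ P.B)
  rw [← upick_smul h hn hy, show (n : G ⧸ P.B) = (n' : G ⧸ P.B) from QuotientGroup.eq.2 he,
    ← upick_smul h hn' y.2]

theorem Z_mul {w : V} (hw : ∀ u ∈ U, ρ u w = w) {s n : G} (hs : s ∈ P.S) (hn : n ∈ P.N)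
    (hl : len P n < len P (s * n)) : Z P U ρ s (Z P U ρ n w) = Z P U ρ (s * n) w := by
  have hsN := S_mem_N P hs
  simp only [Z_apply, map_sum]
  rw [Finset.sum_comm, ← Fintype.sum_prod_type' (f := fun (y : sch P s) (y' : sch P n) =>
    ρ (upick P U s (y : G ⧸ P.B) * s) (ρ (upick P U n (y' : G ⧸ P.B) * n) w))]
  have hmem : ∀ q : sch P s × sch P n,
      (upick P U s (q.1 : G ⧸ P.B) * s) • (q.2 : G ⧸ P.B) ∈ sch P (s * n) := by
    rintro ⟨y, y'⟩
    obtain ⟨w', hw', hw'', e⟩ := exists_transversal h.toSplit hs hn hl y'.2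
    rw [e, smul_smul, show upick P U s (y : G ⧸ P.B) * s * w' =
      upick P U s (y : G ⧸ P.B) * (s * w' * s⁻¹) * s by group]
    exact (mk_mem_sch P).2 (by
      show upick P U s (y : G ⧸ P.B) * (s * w' * s⁻¹) * s * n ∈ cell P (s * n)
      rw [mul_assoc _ s n]
      exact mul_mem_cell_left P (h.le (mul_mem (upick_mem h _ _) hw'')) (self_mem_cell P _))
  refine Fintype.sum_bijective (fun q : sch P s × sch P n =>
    (⟨_, hmem q⟩ : sch P (s * n))) ?_ _ _ ?_
  · refine (Nat.bijective_iff_injective_and_card _).2 ⟨?_, ?_⟩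
    · rintro ⟨y, y'⟩ ⟨z, z'⟩ e
      have e' := congrArg Subtype.val e
      simp only at e'
      set a := upick P U s (y : G ⧸ P.B) with ha
      set b := upick P U s (z : G ⧸ P.B) with hb
      have hg : (b * s)⁻¹ * (a * s) ∈ P.B ∨ (b * s)⁻¹ * (a * s) ∈ cell P s := by
        rw [mul_inv_rev, show s⁻¹ * b⁻¹ * (a * s) = s⁻¹ * (b⁻¹ * a) * s by group]
        exact mul_mem_two P hs (mul_mem_two P hs (inv_mem_two P hs (Or.inr (self_mem_cell P s)))
          (Or.inl (h.le (mul_mem (inv_mem (upick_mem h _ _)) (upick_mem h _ _)))))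
          (Or.inr (self_mem_cell P s))
      have e2 : ((b * s)⁻¹ * (a * s)) • (y' : G ⧸ P.B) = (z' : G ⧸ P.B) := by
        rw [mul_smul, e', inv_smul_smul]
      have hB := eq_of_smul_sch hs hn hl hg y'.2 (by rw [e2]; exact z'.2)
      have hyz : y = z := by
        refine Subtype.ext ?_
        rw [upick_smul h hsN y.2, upick_smul h hsN z.2]
        exact (QuotientGroup.eq.2 hB).symm
      subst hyz
      rw [show (b * s)⁻¹ * (a * s) = 1 by rw [ha, hb, inv_mul_cancel], one_smul] at e2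
      exact Prod.ext rfl (Subtype.ext e2)
    · rw [Nat.card_prod]
      exact (cardC_S_mul h.toSplit hs hn hl).symm
  · rintro ⟨y, y'⟩
    obtain ⟨w', hw', hw'', e⟩ := exists_transversal h.toSplit hs hn hl y'.2
    show ρ (upick P U s (y : G ⧸ P.B) * s) (ρ (upick P U n (y' : G ⧸ P.B) * n) w) = _
    rw [vec_eq h hw (upick_mem h _ _) hw' ((upick_smul h hn y'.2).symm.trans e), ← mul_apply' h,
      show upick P U s (y : G ⧸ P.B) * s * (w' * n) =
        upick P U s (y : G ⧸ P.B) * (s * w' * s⁻¹) * (s * n) by group]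
    refine vec_eq h hw (mul_mem (upick_mem h _ _) hw'') (upick_mem h _ _) ?_
    rw [← upick_smul h (P.N.mul_mem hsN hn) (hmem (y, y'))]
    show _ = (upick P U s (y : G ⧸ P.B) * s) • (y' : G ⧸ P.B)
    rw [e, smul_smul, show upick P U s (y : G ⧸ P.B) * s * w' =
      upick P U s (y : G ⧸ P.B) * (s * w' * s⁻¹) * s by group, mul_smul _ s]
    rfl

theorem cast_cardC_eq_zero [CharP k p] {s : G} (hs : s ∈ P.S) : (cardC P s : k) = 0 := by
  obtain ⟨m, hm⟩ := IsPGroup.iff_card.1 h.pgroup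
  obtain ⟨j, -, hj⟩ := (Nat.dvd_prime_pow hp.out).1 (hm ▸ h.cardC_dvd (S_mem_N P hs))
  have := h.one_lt_cardC_S hs
  rw [CharP.cast_eq_zero_iff k p, hj]
  refine dvd_pow_self p fun hj0 => ?_
  rw [hj, hj0, pow_zero] at this
  omega

theorem Z_sq [CharP k p] {w : V} (hw : Good P U ρ w) {s : G} (hs : s ∈ P.S) :
    ∃ κ : k, Z P U ρ s (Z P U ρ s w) = κ • Z P U ρ s w := by
  have hsN := S_mem_N P hs
  suffices h1 : ∀ y' : sch P s, ∃ κ : k, ∑ y : sch P s,
      ρ (upick P U s (y : G ⧸ P.B) * s) (ρ (upick P U s (y' : G ⧸ P.B) * s) w) =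
        κ • Z P U ρ s w by
    choose κ hκ using h1
    refine ⟨∑ y', κ y', ?_⟩
    rw [Finset.sum_smul, ← Finset.sum_congr rfl fun y' _ => hκ y']
    simp only [Z_apply, map_sum]
  intro y'
  set u := upick P U s (y' : G ⧸ P.B) with hu
  have huU : u ∈ U := upick_mem h _ _
  have hg : s * u * s ∈ P.B ∨ s * u * s ∈ cell P s :=
    mul_mem_two P hs (mul_mem_two P hs (Or.inr (self_mem_cell P s)) (Or.inl (h.le huU)))
      (Or.inr (self_mem_cell P s))
  have e0 : ∀ y : sch P s, ρ (upick P U s (y : G ⧸ P.B) * s) (ρ (u * s) w) =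
      ρ (upick P U s (y : G ⧸ P.B)) (ρ (s * u * s) w) := fun y => by
    rw [← mul_apply' h, ← mul_apply' h]
    simp only [mul_assoc]
  simp only [e0]
  rcases hg with hB | hC
  · refine ⟨0, ?_⟩
    obtain ⟨a, ha, t, ht, e⟩ := h.decomp _ hB
    obtain ⟨c, hc⟩ := hw.2 t ht
    have e1 : ∀ y : sch P s, ρ (upick P U s (y : G ⧸ P.B)) (ρ (s * u * s) w) = c • w := fun y => by
      rw [e, mul_apply' h a, hc, map_smul, map_smul, hw.1 a ha, hw.1 _ (upick_mem h _ _)]
    rw [zero_smul, Finset.sum_congr rfl fun y _ => e1 y, Finset.sum_const, Finset.card_univ,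
      ← Nat.card_eq_fintype_card, ← Nat.cast_smul_eq_nsmul k,
      show Nat.card (sch P s) = cardC P s from rfl, cast_cardC_eq_zero h hs, zero_smul]
  · obtain ⟨a, ha, b, hb, e⟩ := (mem_cell P).1 hC
    obtain ⟨u₁, hu₁, t₁, ht₁, rfl⟩ := h.decomp a ha
    obtain ⟨u₂, hu₂, t₂, ht₂, rfl⟩ := h.decomp b hb
    have hu₂' : t₂⁻¹ * u₂ * t₂ ∈ U := h.toSplit.conj_U ht₂.1 hu₂
    obtain ⟨c, hc⟩ := hw.2 (s⁻¹ * t₁ * s * t₂) (mul_mem (h.toSplit.inv_conj_torus hsN ht₁) ht₂)
    refine ⟨c, ?_⟩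
    have e1 : ρ (s * u * s) w = c • ρ (u₁ * s) w := by
      rw [e, show u₁ * t₁ * s * (u₂ * t₂) =
        u₁ * s * (s⁻¹ * t₁ * s * t₂) * (t₂⁻¹ * u₂ * t₂) by group, mul_apply' h, hw.1 _ hu₂',
        mul_apply' h, hc, map_smul]
    rw [Z_apply, Finset.smul_sum]
    refine Fintype.sum_bijective (fun y : sch P s =>
      (⟨(upick P U s (y : G ⧸ P.B) * u₁) • (s : G ⧸ P.B),
        smul_mem_sch P (h.le (mul_mem (upick_mem h _ _) hu₁)) ⟨s, self_mem_cell P s, rfl⟩⟩ :
        sch P s)) ((Finite.injective_iff_bijective).1 ?_) _ _ fun y => ?_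
    · intro y z e'
      have e2 : (upick P U s (y : G ⧸ P.B) * u₁) • (s : G ⧸ P.B) =
          (upick P U s (z : G ⧸ P.B) * u₁) • (s : G ⧸ P.B) := congrArg Subtype.val e'
      refine Subtype.ext ?_
      rw [upick_smul h hsN y.2, upick_smul h hsN z.2]
      set a' := upick P U s (y : G ⧸ P.B)
      set b' := upick P U s (z : G ⧸ P.B)
      have h3 := h.normal s hs u₁ hu₁ (u₁⁻¹ * (b'⁻¹ * a') * u₁)
        (mul_mem (mul_mem (inv_mem hu₁) (mul_mem (inv_mem (upick_mem h _ _)) (upick_mem h _ _)))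
          hu₁)
        (by
          rw [show u₁⁻¹ * (b'⁻¹ * a') * u₁ = (b' * u₁)⁻¹ * (a' * u₁) by group, mul_smul, e2,
            inv_smul_smul])
      rw [show u₁ * (u₁⁻¹ * (b'⁻¹ * a') * u₁) * u₁⁻¹ = b'⁻¹ * a' by group, mul_smul,
        inv_smul_eq_iff] at h3
      exact h3
    · rw [e1, map_smul, ← mul_apply' h, ← mul_assoc]
      congr 1
      refine vec_eq h hw.1 (mul_mem (upick_mem h _ _) hu₁) (upick_mem h _ _) ?_
      rw [← upick_smul h hsN (Subtype.mem _)]

omit h in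
theorem common_eigen [IsAlgClosed k] [FiniteDimensional k V] (L : List (Module.End k V))
    (hcomm : ∀ a ∈ L, ∀ b ∈ L, Commute a b) :
    ∀ E : Submodule k V, E ≠ ⊥ → (∀ a ∈ L, ∀ x ∈ E, a x ∈ E) →
      ∃ w ∈ E, w ≠ 0 ∧ ∀ a ∈ L, ∃ c : k, a w = c • w := by
  induction L with
  | nil =>
    intro E hE _
    obtain ⟨w, hw, hw0⟩ := E.exists_mem_ne_zero_of_ne_bot hE
    exact ⟨w, hw, hw0, by simp⟩
  | cons a L ih =>
    intro E hE hinv
    haveI : Nontrivial E := Submodule.nontrivial_iff_ne_bot.2 hE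
    have ha : ∀ x ∈ E, a x ∈ E := hinv a List.mem_cons_self
    obtain ⟨c, hc⟩ := Module.End.exists_eigenvalue (a.restrict ha)
    obtain ⟨w0, hw0⟩ := hc.exists_hasEigenvector
    let E' : Submodule k V := E ⊓ LinearMap.ker (a - c • (1 : Module.End k V))
    have hE' : E' ≠ ⊥ := by
      intro h0
      refine hw0.2 (Subtype.ext ?_)
      have hm : (w0 : V) ∈ E' := by
        refine ⟨w0.2, ?_⟩
        have := congrArg Subtype.val hw0.apply_eq_smul
        simp only [LinearMap.coe_restrict_apply, SetLike.val_smul] at this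
        simp [LinearMap.mem_ker, this]
      rw [h0] at hm
      exact (Submodule.mem_bot k).1 hm
    obtain ⟨w, hw, hw0', hall⟩ := ih (fun x hx y hy => hcomm x (List.mem_cons_of_mem _ hx) y
      (List.mem_cons_of_mem _ hy)) E' hE' (fun b hb x hx => by
        refine ⟨hinv b (List.mem_cons_of_mem _ hb) x hx.1, ?_⟩
        have e : a x = c • x := by
          have := hx.2
          simpa [LinearMap.mem_ker, sub_eq_zero] using this
        have e2 : a (b x) = b (a x) :=
          LinearMap.congr_fun (hcomm a List.mem_cons_self b (List.mem_cons_of_mem _ hb)).eq x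
        simp [LinearMap.mem_ker, e2, e])
    refine ⟨w, hw.1, hw0', fun b hb => ?_⟩
    rcases List.mem_cons.1 hb with rfl | hb
    · have := hw.2
      exact ⟨c, by simpa [LinearMap.mem_ker, sub_eq_zero] using this⟩
    · exact hall b hb

theorem exists_good [CharP k p] [IsAlgClosed k] [FiniteDimensional k V] (W : Submodule k V)
    (hW : ∀ g, ∀ x ∈ W, ρ g x ∈ W) (hne : W ≠ ⊥) : ∃ w ∈ W, w ≠ 0 ∧ Good P U ρ w := by
  let ρU : U →* (V ≃ₗ[k] V) :=
    (LinearMap.GeneralLinearGroup.generalLinearEquiv k V).toMonoidHom.comp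
      ((ρ.comp U.subtype).toHomUnits)
  have hρU : ∀ (u : U) (x : V), ρU u x = ρ (u : G) x := fun u x => rfl
  obtain ⟨x, hxW, hx0, hx⟩ := BlockAlg8.exists_fixed_mem h.pgroup ρU W
    (fun u y hy => by rw [hρU]; exact hW _ y hy) hne
  let E : Submodule k V := W ⊓ ⨅ u : U, LinearMap.ker (ρ (u : G) - 1)
  have hmemE : ∀ y, y ∈ E ↔ y ∈ W ∧ ∀ u ∈ U, ρ u y = y := fun y => by
    simp [E, Submodule.mem_iInf, sub_eq_zero]
  have hE : E ≠ ⊥ := fun h0 => hx0 ((Submodule.mem_bot k).1 (h0 ▸ (hmemE x).2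
    ⟨hxW, fun u hu => by simpa [hρU] using hx ⟨u, hu⟩⟩))
  haveI : Fintype ↥(P.B ⊓ P.N) := Fintype.ofFinite _
  obtain ⟨w, hwE, hw0, hw⟩ := common_eigen
    ((Finset.univ : Finset ↥(P.B ⊓ P.N)).toList.map fun t : ↥(P.B ⊓ P.N) => ρ (t : G))
    (by
      simp only [List.mem_map, Finset.mem_toList, Finset.mem_univ, true_and]
      rintro _ ⟨t, rfl⟩ _ ⟨t', rfl⟩
      rw [Commute, SemiconjBy, ← map_mul, ← map_mul, h.comm _ t.2 _ t'.2])
    E hE (by
      simp only [List.mem_map, Finset.mem_toList, Finset.mem_univ, true_and]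
      rintro _ ⟨t, rfl⟩ y hy
      obtain ⟨hyW, hyU⟩ := (hmemE y).1 hy
      refine (hmemE _).2 ⟨hW _ y hyW, fun u hu => ?_⟩
      rw [← mul_apply' h, show u * (t : G) = (t : G) * ((t : G)⁻¹ * u * (t : G)) by group,
        mul_apply' h, hyU _ (h.toSplit.conj_U t.2.1 hu)])
  obtain ⟨hwW, hwU⟩ := (hmemE w).1 hwE
  exact ⟨w, hwW, hw0, hwU, fun t ht => hw _ (List.mem_map.2 ⟨⟨t, ht⟩, by simp, rfl⟩)⟩

omit h in
theorem mem_range_Z_of_mem {W : Submodule k V} (hW : ∀ g, ∀ x ∈ W, ρ g x ∈ W) {x : V}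
    (hx : x ∈ W) (n : G) : Z P U ρ n x ∈ W := by
  rw [Z_apply]
  exact Submodule.sum_mem _ fun y _ => hW _ x hx

/-- A nonzero invariant space contains a nonzero invariant space of dimension at most `|U|`. -/
theorem exists_small_invariant [CharP k p] [IsAlgClosed k] [FiniteDimensional k V]
    (W : Submodule k V) (hW : ∀ g, ∀ x ∈ W, ρ g x ∈ W) (hne : W ≠ ⊥) :
    ∃ X : Submodule k V, X ≤ W ∧ X ≠ ⊥ ∧ (∀ g, ∀ x ∈ X, ρ g x ∈ X) ∧
      Module.finrank k X ≤ Nat.card U := by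
  obtain ⟨w, hwW, hw0, hw⟩ := exists_good h W hW hne
  have h1mem : (1 : G) ∈ Finset.univ.filter (fun n : G => n ∈ P.N ∧ Z P U ρ n w ≠ 0) :=
    Finset.mem_filter.2 ⟨Finset.mem_univ _, P.N.one_mem, by rw [Z_one h hw.1]; exact hw0⟩
  obtain ⟨n, hnmem, hmax⟩ := Finset.exists_max_image _ (fun n => len P n) ⟨1, h1mem⟩
  obtain ⟨-, hn, hzn⟩ := Finset.mem_filter.1 hnmem
  set z := Z P U ρ n w with hz
  have hzgood : Good P U ρ z := Z_good h hw hn
  have hS : ∀ s ∈ P.S, ∃ c : k, Z P U ρ s z = c • z := by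
    intro s hs
    have hsN := S_mem_N P hs
    have hsn := P.N.mul_mem hsN hn
    rcases lt_or_ge (len P n) (len P (s * n)) with hl | hl
    · refine ⟨0, ?_⟩
      rw [hz, Z_mul h hw.1 hs hn hl, zero_smul]
      by_contra h0
      have := hmax (s * n) (Finset.mem_filter.2 ⟨Finset.mem_univ _, hsn, h0⟩)
      omega
    · have hl' : len P (s * n) < len P (s * (s * n)) := by
        rw [len_congr P (eqv_S_mul_S_mul P hs hn)]
        exact lt_of_le_of_ne hl (len_S_mul_ne P hs hn)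
      obtain ⟨c, hc⟩ := Z_congr h hw (P.N.mul_mem hsN hsn) hn (eqv_S_mul_S_mul P hs hn)
      obtain ⟨κ, hκ⟩ := Z_sq h (Z_good h hw hsn) hs
      refine ⟨κ, ?_⟩
      rw [hz, hc, ← Z_mul h hw.1 hs hsn hl', map_smul, hκ, smul_comm]
  set v : U → V := fun u => ρ ((u : G) * w0 P) z with hv
  set X : Submodule k V := Submodule.span k (Set.range v)
  have hsmul : ∀ b ∈ P.B, ∃ c : k, ρ b z = c • z := by
    intro b hb
    obtain ⟨a, ha, t, ht, rfl⟩ := h.decomp b hb
    obtain ⟨c, hc⟩ := hzgood.2 t ht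
    exact ⟨c, by rw [mul_apply' h, hc, map_smul, hzgood.1 a ha]⟩
  have hall : ∀ g : G, ρ g z ∈ X := by
    suffices ∀ j, ∀ m ∈ P.N, len P (w0 P) - len P m = j → ∀ g ∈ cell P m, ρ g z ∈ X from
      fun g => this _ _ (rep_mem P g) rfl g (mem_cell_rep P g)
    intro j
    induction j using Nat.strong_induction_on with
    | _ j ih =>
      intro m hm hj g hg
      by_cases hmw : Eqv P m (w0 P)
      · rw [cell_congr P hmw] at hg
        obtain ⟨a, ha, b, hb, rfl⟩ := (mem_cell P).1 hg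
        obtain ⟨u, hu, t, ht, rfl⟩ := h.decomp a ha
        have e : u * t * w0 P * b = u * w0 P * ((w0 P)⁻¹ * t * w0 P * b) := by group
        obtain ⟨c, hc⟩ := hsmul _ (mul_mem (h.toSplit.inv_conj_torus (w0_mem P) ht).1 hb)
        rw [e, mul_apply' h, hc, map_smul]
        exact X.smul_mem _ (Submodule.subset_span ⟨⟨u, hu⟩, rfl⟩)
      · obtain ⟨s, hs, hl⟩ := exists_ascent P hm hmw
        have hsN := S_mem_N P hs
        have hms := P.N.mul_mem hm hsN
        obtain ⟨c, hc⟩ := hS s hs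
        have hlt : len P (w0 P) - len P (m * s) < j := by
          have := len_le_w0 P hms
          omega
        have hsinv : s⁻¹ ∈ cell P s := cell_congr P (eqv_S_inv P hs) ▸ self_mem_cell P s⁻¹
        have hg' : ρ (g * s⁻¹) z ∈ X :=
          ih _ hlt _ hms rfl _ (mul_mem_cell_right_of_len P hs hm hl.le hg hsinv)
        have hsum : ∑ y : sch P s, ρ (g * s⁻¹) (ρ (upick P U s (y : G ⧸ P.B) * s) z) ∈ X := by
          rw [← map_sum, ← Z_apply, hc, map_smul]
          exact X.smul_mem _ hg'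
        let y0 : sch P s := ⟨(s : G ⧸ P.B), s, self_mem_cell P s, rfl⟩
        rw [← Finset.add_sum_erase _ _ (Finset.mem_univ y0)] at hsum
        have hrest : ∑ y ∈ Finset.univ.erase y0,
            ρ (g * s⁻¹) (ρ (upick P U s ((y : sch P s) : G ⧸ P.B) * s) z) ∈ X := by
          refine X.sum_mem fun y hy => ?_
          rw [← mul_apply' h, show g * s⁻¹ * (upick P U s (y : G ⧸ P.B) * s) =
            g * (s⁻¹ * upick P U s (y : G ⧸ P.B) * s) by group]
          refine ih _ hlt _ hms rfl _ (mul_mem_cell_right_of_len P hs hm hl.le hg ?_)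
          refine ((mul_mem_two P hs (mul_mem_two P hs (Or.inr hsinv)
            (Or.inl (h.le (upick_mem h _ _)))) (Or.inr (self_mem_cell P s)))).resolve_left ?_
          intro hB
          refine (Finset.mem_erase.1 hy).1 (Subtype.ext ?_)
          rw [upick_smul h hsN y.2]
          refine (QuotientGroup.eq.2 ?_).symm
          show s⁻¹ * (upick P U s (y : G ⧸ P.B) * s) ∈ P.B
          rwa [← mul_assoc]
        have h2 := (X.add_mem_iff_left hrest).1 hsum
        have h3 : ρ (upick P U s (y0 : G ⧸ P.B) * s) z = ρ (1 * s) z :=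
          vec_eq h hzgood.1 (upick_mem h _ _) U.one_mem
            (by rw [one_smul, ← upick_smul h hsN y0.2])
        rwa [h3, ← mul_apply' h, one_mul, inv_mul_cancel_right] at h2
  refine ⟨X, ?_, ?_, ?_, ?_⟩
  · rw [Submodule.span_le]
    rintro _ ⟨u, rfl⟩
    exact hW _ _ (mem_range_Z_of_mem hW hwW n)
  · intro h0
    have := hall 1
    rw [h0, map_one] at this
    exact hzn ((Submodule.mem_bot k).1 this)
  · intro g x hx
    induction hx using Submodule.span_induction with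
    | mem x hx =>
      obtain ⟨u, rfl⟩ := hx
      rw [hv]
      dsimp only
      rw [← mul_apply' h]
      exact hall _
    | zero => rw [map_zero]; exact X.zero_mem
    | add x y _ _ hx hy => rw [map_add]; exact X.add_mem hx hy
    | smul c x _ hx => rw [map_smul]; exact X.smul_mem c hx
  · rw [Nat.card_eq_fintype_card]
    exact finrank_range_le_card v

end Cfsg.Agent.Steinberg
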