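import Cfsg.Agent.Lib.BNPair.Parabolic
import Mathlib.GroupTheory.GroupAction.Quotient
import Mathlib.SetTheory.Cardinal.Finite
import Mathlib.Algebra.BigOperators.Group.Finset.Basic

/-!
# (B,N)-pairs: Schubert cells in the coset space, descents, the longest element, gates
-/

set_option autoImplicit false

namespace Cfsg.Agent.Steinberg

open Cfsg.Agent.BN
open scoped Pointwise

variable {G : Type*} [Group G] (P : Cfsg.BNPair G)

/-! ### Lengths and products on the right -/

theorem eqv_S_inv_right {s : G} (hs : s ∈ P.S) (n : G) : Eqv P (n * s⁻¹) (n * s) :=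
  eqv_mul_left P n (eqv_S_inv P hs)

theorem len_mul_S {s n : G} (hs : s ∈ P.S) (hn : n ∈ P.N) :
    len P (n * s) = len P (s * n⁻¹) := by
  rw [← len_congr P (eqv_S_inv_right P hs n),
    ← len_inv P (P.N.mul_mem hn (P.N.inv_mem (S_mem_N P hs))), mul_inv_rev, inv_inv]

theorem len_mul_S_ne {s n : G} (hs : s ∈ P.S) (hn : n ∈ P.N) : len P (n * s) ≠ len P n := by
  rw [len_mul_S P hs hn, ← len_inv P hn]
  exact len_S_mul_ne P hs (P.N.inv_mem hn)

theorem len_mul_S_cases {s n : G} (hs : s ∈ P.S) (hn : n ∈ P.N) :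
    len P (n * s) = len P n + 1 ∨ len P (n * s) + 1 = len P n := by
  have h1 := len_mul_S_le P hs hn
  have h2 := len_mul_S_ne P hs hn
  have h3 := le_len_S_mul P hs (P.N.inv_mem hn)
  rw [← len_mul_S P hs hn, len_inv P hn] at h3
  omega

theorem mul_mem_cell_right_of_len {s n x y : G} (hs : s ∈ P.S) (hn : n ∈ P.N)
    (hl : len P n ≤ len P (n * s)) (hx : x ∈ cell P n) (hy : y ∈ cell P s) :
    x * y ∈ cell P (n * s) := by
  obtain ⟨a, ha, b, hb, rfl⟩ := (mem_cell P).1 hx
  obtain ⟨c, hc, d, hd, rfl⟩ := (mem_cell P).1 hy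
  have he : (s * s)⁻¹ * (b * c)⁻¹ ∈ P.B :=
    mul_mem (inv_mem (P.sq_mem s hs)) (inv_mem (mul_mem hb hc))
  have h := mul_mem_cell_of_len_le P hs (P.N.inv_mem hn) he
    (by rw [← len_mul_S P hs hn, len_inv P hn]; exact hl)
  have h' := inv_mem_cell P h
  rw [cell_congr P (h := n * s) (by
    have := eqv_S_inv_right P hs n
    simpa [Eqv] using this)] at h'
  have e : a * n * b * (c * s * d) = a * ((s * ((s * s)⁻¹ * (b * c)⁻¹) * n⁻¹))⁻¹ * d := by group
  rw [e]
  exact mul_mem_cell_right P hd (mul_mem_cell_left P ha h')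

/-! ### The subgroup `B ∪ B s B` -/

theorem eq_one_or_eqv_of_mem {s n : G} (hs : s ∈ P.S) (hn : n ∈ P.N) (h : n ∈ cell P s) :
    Eqv P n s :=
  eqv_of_cell_eq P hn (S_mem_N P hs) (cell_eq_of_mem P h)

theorem mul_mem_two {s x y : G} (hs : s ∈ P.S) (hx : x ∈ P.B ∨ x ∈ cell P s)
    (hy : y ∈ P.B ∨ y ∈ cell P s) : x * y ∈ P.B ∨ x * y ∈ cell P s := by
  rcases hx with hx | hx <;> rcases hy with hy | hy
  · exact Or.inl (mul_mem hx hy)
  · exact Or.inr (mul_mem_cell_left P hx hy)
  · exact Or.inr (mul_mem_cell_right P hy hx)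
  · rcases mul_cell_subset P hs (S_mem_N P hs) hx hy with h | h
    · rw [cell_congr P (eqv_sq P hs)] at h
      exact Or.inl ((cell_one P).1 h)
    · exact Or.inr h

theorem inv_mem_two {s x : G} (hs : s ∈ P.S) (hx : x ∈ P.B ∨ x ∈ cell P s) :
    x⁻¹ ∈ P.B ∨ x⁻¹ ∈ cell P s := by
  rcases hx with hx | hx
  · exact Or.inl (inv_mem hx)
  · exact Or.inr (cell_congr P (eqv_S_inv P hs) ▸ inv_mem_cell P hx)

/-! ### Schubert cells -/

/-- The cosets of `B` inside the double coset of `n`. -/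
def sch (n : G) : Set (G ⧸ P.B) := {y | ∃ g ∈ cell P n, (g : G ⧸ P.B) = y}

theorem mk_mem_sch {n g : G} : (g : G ⧸ P.B) ∈ sch P n ↔ g ∈ cell P n := by
  refine ⟨fun ⟨h, hh, e⟩ => ?_, fun h => ⟨g, h, rfl⟩⟩
  have := mul_mem_cell_right P (QuotientGroup.eq.1 e) hh
  rwa [mul_inv_cancel_left] at this

theorem sch_congr {n n' : G} (h : Eqv P n n') : sch P n = sch P n' := by
  rw [sch, sch, cell_congr P h]

theorem sch_one : sch P 1 = {((1 : G) : G ⧸ P.B)} := by
  ext y
  induction y using QuotientGroup.induction_on with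
  | H g =>
    rw [mk_mem_sch, cell_one, Set.mem_singleton_iff, QuotientGroup.eq]
    simp

theorem smul_mem_sch {n b : G} (hb : b ∈ P.B) {y : G ⧸ P.B} (hy : y ∈ sch P n) :
    b • y ∈ sch P n := by
  obtain ⟨g, hg, rfl⟩ := hy
  exact ⟨b * g, mul_mem_cell_left P hb hg, rfl⟩

/-- The number of cosets of `B` in the double coset of `n`. -/
noncomputable def cardC (n : G) : ℕ := Nat.card (sch P n)

theorem cardC_congr {n n' : G} (h : Eqv P n n') : cardC P n = cardC P n' := by
  rw [cardC, cardC, sch_congr P h]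

theorem cardC_one : cardC P 1 = 1 := by
  rw [cardC, sch_one]; simp

theorem cardC_pos [Finite G] (n : G) : 0 < cardC P n := by
  have : Nonempty (sch P n) := ⟨⟨_, n, self_mem_cell P n, rfl⟩⟩
  exact Nat.card_pos

theorem out_mem_cell {n : G} {y : G ⧸ P.B} (hy : y ∈ sch P n) : y.out ∈ cell P n :=
  (mk_mem_sch P).1 (by rwa [QuotientGroup.out_eq'])

theorem cardC_mul_S {s n : G} (hs : s ∈ P.S) (hn : n ∈ P.N) (hl : len P n < len P (n * s)) :
    cardC P (n * s) = cardC P n * cardC P s := by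
  rw [cardC, cardC, cardC, ← Nat.card_prod]
  refine (Nat.card_congr (Equiv.ofBijective
    (fun p : sch P n × sch P s => (⟨(p.1 : G ⧸ P.B).out • (p.2 : G ⧸ P.B), by
      obtain ⟨z, hz, e⟩ := p.2.2
      rw [← e]
      exact ⟨_, mul_mem_cell_right_of_len P hs hn hl.le (out_mem_cell P p.1.2) hz, rfl⟩⟩ :
      sch P (n * s))) ⟨?_, ?_⟩)).symm
  · rintro ⟨⟨y, hy⟩, ⟨z, hz⟩⟩ ⟨⟨y', hy'⟩, ⟨z', hz'⟩⟩ h
    have h' : y.out • z = y'.out • z' := congrArg Subtype.val h
    have h2 : (y.out⁻¹ * y'.out) • z' = z := by rw [mul_smul, ← h', inv_smul_smul]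
    obtain ⟨w, hw, rfl⟩ := hz
    obtain ⟨w', hw', rfl⟩ := hz'
    have hmem : y.out⁻¹ * y'.out ∈ P.B ∨ y.out⁻¹ * y'.out ∈ cell P s := by
      have hb : (y.out⁻¹ * y'.out * w')⁻¹ * w ∈ P.B := QuotientGroup.eq.1 h2
      have e : y.out⁻¹ * y'.out = w * ((y.out⁻¹ * y'.out * w')⁻¹ * w)⁻¹ * w'⁻¹ := by group
      rw [e]
      exact mul_mem_two P hs (mul_mem_two P hs (Or.inr hw) (Or.inl (inv_mem hb)))
        (inv_mem_two P hs (Or.inr hw'))
    rcases hmem with hB | hC
    · obtain rfl : y = y' := by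
        have := QuotientGroup.eq.2 hB
        rwa [QuotientGroup.out_eq', QuotientGroup.out_eq'] at this
      exact Prod.ext rfl (Subtype.ext (smul_left_cancel _ h'))
    · exfalso
      have h3 := mul_mem_cell_right_of_len P hs hn hl.le (out_mem_cell P hy) hC
      rw [mul_inv_cancel_left] at h3
      have := eqv_of_cell_eq P hn (P.N.mul_mem hn (S_mem_N P hs))
        ((cell_eq_of_mem P (out_mem_cell P hy')).symm.trans (cell_eq_of_mem P h3))
      rw [len_congr P this] at hl
      omega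
  · rintro ⟨x, g, hg, rfl⟩
    obtain ⟨a, ha, b, hb, rfl⟩ := (mem_cell P).1 hg
    have hy : ((a * n : G) : G ⧸ P.B) ∈ sch P n :=
      (mk_mem_sch P).2 (mul_mem_cell_left P ha (self_mem_cell P n))
    set y : G ⧸ P.B := ((a * n : G) : G ⧸ P.B) with hy'
    have hb0 : y.out⁻¹ * (a * n) ∈ P.B := QuotientGroup.eq.1 (QuotientGroup.out_eq' y)
    refine ⟨⟨⟨y, hy⟩, ⟨((y.out⁻¹ * (a * n) * (s * b) : G) : G ⧸ P.B),
      (mk_mem_sch P).2 (mul_mem_cell_left P hb0
        (mul_mem_cell_right P hb (self_mem_cell P s)))⟩⟩, Subtype.ext ?_⟩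
    show y.out • ((y.out⁻¹ * (a * n) * (s * b) : G) : G ⧸ P.B) = _
    show ((y.out * (y.out⁻¹ * (a * n) * (s * b)) : G) : G ⧸ P.B) = _
    congr 1
    group

/-! ### The double coset representative of an element -/

/-- A representative in `N` of the double coset of `g`. -/
noncomputable def rep (g : G) : G := (exists_cell P g).choose

theorem rep_mem (g : G) : rep P g ∈ P.N := (exists_cell P g).choose_spec.1

theorem mem_cell_rep (g : G) : g ∈ cell P (rep P g) := (exists_cell P g).choose_spec.2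

theorem rep_eqv {g n : G} (hn : n ∈ P.N) (hg : g ∈ cell P n) : Eqv P (rep P g) n :=
  eqv_of_cell_eq P (rep_mem P g) hn
    ((cell_eq_of_mem P (mem_cell_rep P g)).symm.trans (cell_eq_of_mem P hg))

/-! ### Descents, the longest element -/

/-- All distinguished generators are left descents of `v`. -/
def Full (v : G) : Prop := ∀ s ∈ P.S, len P (s * v) < len P v

theorem exists_prefix {v : G} (hv : v ∈ P.N) (hfull : Full P v) : ∀ u : List G, Reduced P u →
    ∃ Y : List G, Reduced P (u ++ Y) ∧ Eqv P (u ++ Y).prod v := by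
  intro u
  induction u with
  | nil => intro _; exact exists_reduced P hv
  | cons s u ih =>
    intro hu
    have hs := hu.1 s List.mem_cons_self
    have hu' : Reduced P u := reduced_of_append P (L := [s]) hu
    obtain ⟨Y, hY, hYe⟩ := ih hu'
    have hlenv : len P v = (u ++ Y).length := by rw [← len_congr P hYe, hY.2]
    have hlt : len P (s * (u ++ Y).prod) < (u ++ Y).length := by
      rw [len_congr P (eqv_mul_left P s hYe), ← hlenv]
      exact hfull s hs
    obtain ⟨i, hi, he⟩ := exchange P hs hY hlt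
    obtain ⟨huw, hYw⟩ := (isWord_append P).1 hY.1
    have hsN := S_mem_N P hs
    rcases lt_or_ge i u.length with hiu | hiu
    · exfalso
      rw [List.eraseIdx_append_of_lt_length hiu, List.prod_append, List.prod_append,
        ← mul_assoc] at he
      have hw := huw.sublist P (u.eraseIdx_sublist i)
      have h2 := eqv_mul_right P he (P.N.mul_mem (P.N.mul_mem hsN (huw.mem_N P)) (hYw.mem_N P))
        (P.N.mul_mem (hw.mem_N P) (hYw.mem_N P)) (P.N.inv_mem (hYw.mem_N P))
      rw [mul_inv_cancel_right, mul_inv_cancel_right] at h2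
      have h3 := len_le P hw (eqv_symm P h2)
      rw [List.length_eraseIdx_of_lt hiu] at h3
      have h4 := hu.2
      simp only [List.prod_cons, List.length_cons] at h4
      omega
    · rw [List.eraseIdx_append_of_length_le hiu] at he
      have hYw' := hYw.sublist P (Y.eraseIdx_sublist (i - u.length))
      refine ⟨Y.eraseIdx (i - u.length), ?_, ?_⟩
      · have hiY : i - u.length < Y.length := by rw [List.length_append] at hi; omega
        have hee : Eqv P (s :: u ++ Y.eraseIdx (i - u.length)).prod v := by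
          rw [List.cons_append, List.prod_cons]
          exact eqv_trans P (eqv_mul_left P s (eqv_symm P he))
            (eqv_trans P (eqv_S_mul_S_mul P hs (hY.1.mem_N P)) hYe)
        refine ⟨(isWord_append P).2 ⟨hu.1, hYw'⟩, ?_⟩
        rw [len_congr P hee, hlenv]
        simp only [List.length_append, List.length_cons, List.length_eraseIdx_of_lt hiY]
        omega
      · rw [List.cons_append, List.prod_cons]
        exact eqv_trans P (eqv_mul_left P s (eqv_symm P he))
          (eqv_trans P (eqv_S_mul_S_mul P hs (hY.1.mem_N P)) hYe)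

theorem len_le_of_full {v u : G} (hv : v ∈ P.N) (hu : u ∈ P.N) (hfull : Full P v) :
    len P u ≤ len P v := by
  obtain ⟨L, hL, hLe⟩ := exists_reduced P hu
  obtain ⟨Y, hY, hYe⟩ := exists_prefix P hv hfull L hL
  rw [← len_congr P hLe, hL.2, ← len_congr P hYe, hY.2, List.length_append]
  omega

theorem eqv_of_full {v u : G} (hv : v ∈ P.N) (hu : u ∈ P.N) (hfv : Full P v) (hfu : Full P u) :
    Eqv P u v := by
  obtain ⟨L, hL, hLe⟩ := exists_reduced P hu
  obtain ⟨Y, hY, hYe⟩ := exists_prefix P hv hfv L hL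
  have h1 := len_le_of_full P hu hv hfu
  rw [← len_congr P hLe, hL.2, ← len_congr P hYe, hY.2, List.length_append] at h1
  obtain rfl : Y = [] := List.eq_nil_of_length_eq_zero (by omega)
  rw [List.append_nil] at hYe
  exact eqv_trans P (eqv_symm P hLe) hYe

variable [Finite G]

theorem exists_longest : ∃ w ∈ P.N, ∀ u ∈ P.N, len P u ≤ len P w := by
  haveI : Nonempty P.N := ⟨1⟩
  obtain ⟨w, hw⟩ := Finite.exists_max (fun n : P.N => len P (n : G))
  exact ⟨w, w.2, fun u hu => hw ⟨u, hu⟩⟩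

/-- The longest element. -/
noncomputable def w0 : G := (exists_longest P).choose

theorem w0_mem : w0 P ∈ P.N := (exists_longest P).choose_spec.1

theorem len_le_w0 {u : G} (hu : u ∈ P.N) : len P u ≤ len P (w0 P) :=
  (exists_longest P).choose_spec.2 u hu

theorem full_w0 : Full P (w0 P) := fun _ hs =>
  lt_of_le_of_ne (len_le_w0 P (P.N.mul_mem (S_mem_N P hs) (w0_mem P)))
    (len_S_mul_ne P hs (w0_mem P))

theorem eqv_w0_of_full {v : G} (hv : v ∈ P.N) (h : Full P v) : Eqv P v (w0 P) :=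
  eqv_of_full P (w0_mem P) hv (full_w0 P) h

theorem exists_ascent {n : G} (hn : n ∈ P.N) (h : ¬ Eqv P n (w0 P)) :
    ∃ s ∈ P.S, len P n < len P (n * s) := by
  by_contra hno
  push Not at hno
  refine h ?_
  have hfull : Full P n⁻¹ := fun s hs => by
    rw [← len_mul_S P hs hn, len_inv P hn]
    exact lt_of_le_of_ne (hno s hs) (len_mul_S_ne P hs hn)
  have hw : Full P (w0 P)⁻¹ := fun s hs => by
    rw [len_inv P (w0_mem P)]
    exact lt_of_le_of_ne (len_le_w0 P (P.N.mul_mem (S_mem_N P hs) (P.N.inv_mem (w0_mem P))))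
      (by rw [← len_mul_S P hs (w0_mem P)]; exact len_mul_S_ne P hs (w0_mem P))
  have h1 := eqv_of_full P (P.N.inv_mem (w0_mem P)) (P.N.inv_mem hn) hw hfull
  simpa using eqv_inv P h1 (P.N.inv_mem hn) (P.N.inv_mem (w0_mem P))

theorem len_w0_mul_S {s : G} (hs : s ∈ P.S) : len P (w0 P * s) < len P (w0 P) :=
  lt_of_le_of_ne (len_le_w0 P (P.N.mul_mem (w0_mem P) (S_mem_N P hs)))
    (len_mul_S_ne P hs (w0_mem P))

omit [Finite G]

/-! ### Gates -/

/-- `n` has no left descent in `K` and no right descent in `J`. -/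
def Gate (K J : Set G) (n : G) : Prop :=
  (∀ s ∈ K, len P n < len P (s * n)) ∧ (∀ s ∈ J, len P n < len P (n * s))

theorem mem_cell_mul {L : List G} (hL : IsWord P L) : ∀ {M : List G}, IsWord P M → ∀ {x y : G},
    x ∈ cell P L.prod → y ∈ cell P M.prod →
      ∃ R : List G, R.Sublist (L ++ M) ∧ x * y ∈ cell P R.prod := by
  induction L with
  | nil =>
    intro M _ x y hx hy
    rw [List.prod_nil, cell_one] at hx
    exact ⟨M, List.Sublist.refl _, mul_mem_cell_left P hx hy⟩
  | cons s L ih =>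
    intro M hM x y hx hy
    obtain ⟨hs, hL'⟩ := (isWord_cons P).1 hL
    obtain ⟨a, ha, b, hb, rfl⟩ := (mem_cell P).1 hx
    obtain ⟨R, hR, hxy⟩ := ih hL' hM (x := L.prod * b) (y := y)
      (mul_mem_cell_right P hb (self_mem_cell P _)) hy
    have hRw : IsWord P R := ((isWord_append P).2 ⟨hL', hM⟩).sublist P hR
    rw [List.prod_cons, show a * (s * L.prod) * b * y = a * (s * (L.prod * b * y)) by group]
    rcases mul_cell_subset P hs (hRw.mem_N P) (self_mem_cell P s) hxy with h | h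
    · exact ⟨s :: R, hR.cons_cons s, by rw [List.prod_cons]; exact mul_mem_cell_left P ha h⟩
    · exact ⟨R, hR.cons s, mul_mem_cell_left P ha h⟩

theorem exists_word_of_mem_parabolic {J : Set G} (hJ : J ⊆ P.S) {p : G}
    (hp : p ∈ P.parabolic J) : ∃ A : List G, (∀ x ∈ A, x ∈ J) ∧ p ∈ cell P A.prod := by
  obtain ⟨a, ha, hpa⟩ := (mem_parabolic_iff P hJ p).1 hp
  obtain ⟨A, hA, hAe⟩ := exists_word_of_mem_closure P hJ ha
  exact ⟨A, hA, by rwa [cell_congr P hAe]⟩

theorem eqv_of_minimal {K J : Set G} (hK : K ⊆ P.S) (hJ : J ⊆ P.S) {v v' : G} (hv : v ∈ P.N)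
    (hv' : v' ∈ P.N) (hg : Gate P K J v') {p q : G} (hp : p ∈ P.parabolic K)
    (hq : q ∈ P.parabolic J) (e : v' = p * v * q)
    (hmin : ∀ m ∈ P.N, (∃ p ∈ P.parabolic K, ∃ q ∈ P.parabolic J, m = p * v' * q) →
      len P v ≤ len P m) : Eqv P v' v := by
  obtain ⟨A, hA, hpA⟩ := exists_word_of_mem_parabolic P hK hp
  obtain ⟨C, hC, hqC⟩ := exists_word_of_mem_parabolic P hJ hq
  have hAw : IsWord P A := fun x hx => hK (hA x hx)
  have hCw : IsWord P C := fun x hx => hJ (hC x hx)
  obtain ⟨V, hV, hVe⟩ := exists_reduced P hv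
  have hvV : v ∈ cell P V.prod := by rw [cell_congr P hVe]; exact self_mem_cell P v
  obtain ⟨R₁, hR₁, h1⟩ := mem_cell_mul P hAw hV.1 hpA hvV
  have hR₁w := ((isWord_append P).2 ⟨hAw, hV.1⟩).sublist P hR₁
  obtain ⟨R₂, hR₂, h2⟩ := mem_cell_mul P hR₁w hCw h1 hqC
  rw [← e] at h2
  have hR₂w := ((isWord_append P).2 ⟨hR₁w, hCw⟩).sublist P hR₂
  obtain ⟨R, hR, hRred, hRe⟩ := exists_reduced_sublist P hR₂w
  have hRv : Eqv P R.prod v' := eqv_trans P hRe
    (eqv_of_cell_eq P (hR₂w.mem_N P) hv' (cell_eq_of_mem P h2).symm)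
  obtain ⟨R', C', rfl, hR', hC'⟩ := List.sublist_append_iff.1
    (hR.trans (hR₂.trans (hR₁.append (List.Sublist.refl C))))
  obtain ⟨A', V', rfl, hA', hV'⟩ := List.sublist_append_iff.1 hR'
  obtain ⟨hA'V'w, hC'w⟩ := (isWord_append P).1 hRred.1
  obtain ⟨hA'w, hV'w⟩ := (isWord_append P).1 hA'V'w
  have hlenv' : len P v' = A'.length + V'.length + C'.length := by
    rw [← len_congr P hRv, hRred.2, List.length_append, List.length_append]
  have hA'nil : A' = [] := by
    match A', hA', hA'w, hRv, hlenv', hRred with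
    | [], _, _, _, _, _ => rfl
    | a :: A'', hA', hA'w, hRv, hlenv', hRred =>
      exfalso
      have haK : a ∈ K := hA a (hA'.subset List.mem_cons_self)
      have haS := hK haK
      have h3 : Eqv P (a * v') (A'' ++ V' ++ C').prod := by
        refine eqv_trans P (eqv_mul_left P a (eqv_symm P hRv)) ?_
        simp only [List.cons_append, List.prod_cons]
        exact eqv_S_mul_S_mul P haS (((isWord_append P).2 ⟨(isWord_append P).2
          ⟨((isWord_cons P).1 hA'w).2, hV'w⟩, hC'w⟩).mem_N P)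
      have h4 := len_le P ((isWord_append P).2 ⟨(isWord_append P).2
        ⟨((isWord_cons P).1 hA'w).2, hV'w⟩, hC'w⟩) (eqv_symm P h3)
      have h5 := hg.1 a haK
      simp only [List.length_append, List.length_cons] at h4 hlenv'
      omega
  have hC'nil : C' = [] := by
    rcases List.eq_nil_or_concat C' with h | ⟨C'', c, rfl⟩
    · exact h
    · exfalso
      rw [List.concat_eq_append] at hC' hC'w hRv hlenv'
      have hcJ : c ∈ J := hC c (hC'.subset (by simp))
      have hcS := hJ hcJ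
      have hw' : IsWord P (A' ++ V' ++ C'') :=
        (isWord_append P).2 ⟨hA'V'w, ((isWord_append P).1 hC'w).1⟩
      have hRw2 : IsWord P (A' ++ V' ++ (C'' ++ [c])) := (isWord_append P).2 ⟨hA'V'w, hC'w⟩
      have h3 : Eqv P (A' ++ V' ++ C'').prod (v' * c) := by
        refine eqv_trans P ?_ (eqv_mul_right P hRv (hRw2.mem_N P) hv' (S_mem_N P hcS))
        rw [List.prod_append, List.prod_append, List.prod_append (l₂ := C'' ++ [c]),
          List.prod_append, List.prod_append, List.prod_singleton, ← mul_assoc]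
        exact eqv_symm P (eqv_mul_S_mul_S P hcS)
      have h4 := len_le P hw' h3
      have h5 := hg.2 c hcJ
      simp only [List.length_append, List.length_singleton] at h4 hlenv'
      omega
  subst hA'nil hC'nil
  rw [List.nil_append, List.append_nil] at hRv
  simp only [List.length_nil, zero_add, add_zero] at hlenv'
  have h6 := hmin v' hv' ⟨1, one_mem _, 1, one_mem _, by simp⟩
  have hVlen : V.length = len P v := by rw [← len_congr P hVe, hV.2]
  have h7 : V' = V := hV'.eq_of_length_le (by omega)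
  exact eqv_trans P (eqv_symm P (h7 ▸ hRv)) hVe

/-- A double coset of parabolic subgroups has a unique gate. -/
theorem existsUnique_gate {K J : Set G} (hK : K ⊆ P.S) (hJ : J ⊆ P.S) {g : G} (hg : g ∈ P.N) :
    (∃ v ∈ P.N, Gate P K J v ∧ ∃ p ∈ P.parabolic K, ∃ q ∈ P.parabolic J, v = p * g * q) ∧
    ∀ v ∈ P.N, ∀ v' ∈ P.N, Gate P K J v → Gate P K J v' →
      (∃ p ∈ P.parabolic K, ∃ q ∈ P.parabolic J, v' = p * v * q) → Eqv P v' v := by
  have hmin : ∀ g ∈ P.N, ∃ v ∈ P.N, (∃ p ∈ P.parabolic K, ∃ q ∈ P.parabolic J, v = p * g * q) ∧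
      ∀ m ∈ P.N, (∃ p ∈ P.parabolic K, ∃ q ∈ P.parabolic J, m = p * g * q) →
        len P v ≤ len P m := by
    intro g hg
    classical
    let Q : ℕ → Prop := fun k => ∃ v ∈ P.N,
      (∃ p ∈ P.parabolic K, ∃ q ∈ P.parabolic J, v = p * g * q) ∧ len P v = k
    have hQ : ∃ k, Q k := ⟨_, g, hg, ⟨1, one_mem _, 1, one_mem _, by simp⟩, rfl⟩
    obtain ⟨v, hv, hvc, hvl⟩ := Nat.find_spec hQ
    exact ⟨v, hv, hvc, fun m hm hmc => hvl ▸ Nat.find_min' hQ ⟨m, hm, hmc, rfl⟩⟩
  constructor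
  · obtain ⟨v, hv, ⟨p, hp, q, hq, rfl⟩, hle⟩ := hmin g hg
    refine ⟨_, hv, ⟨fun s hs => ?_, fun s hs => ?_⟩, p, hp, q, hq, rfl⟩
    · exact lt_of_le_of_ne (hle _ (P.N.mul_mem (S_mem_N P (hK hs)) hv)
        ⟨s * p, mul_mem (mem_parabolic_of_mem P hs) hp, q, hq, by group⟩)
        (len_S_mul_ne P (hK hs) hv).symm
    · exact lt_of_le_of_ne (hle _ (P.N.mul_mem hv (S_mem_N P (hJ hs)))
        ⟨p, hp, q * s, mul_mem hq (mem_parabolic_of_mem P hs), by group⟩)
        (len_mul_S_ne P (hJ hs) hv).symm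
  · intro v hv v' hv' hgv hgv' ⟨p, hp, q, hq, e⟩
    obtain ⟨m, hm, ⟨p', hp', q', hq', rfl⟩, hle⟩ := hmin v hv
    have hle' : ∀ x : G, (∀ k ∈ P.N, (∃ p ∈ P.parabolic K, ∃ q ∈ P.parabolic J, k = p * x * q) →
        ∃ p ∈ P.parabolic K, ∃ q ∈ P.parabolic J, k = p * v * q) →
        ∀ k ∈ P.N, (∃ p ∈ P.parabolic K, ∃ q ∈ P.parabolic J, k = p * x * q) →
          len P (p' * v * q') ≤ len P k := fun x hx k hk hkc => hle k hk (hx k hk hkc)
    have h1 := eqv_of_minimal P hK hJ hm hv' hgv' (p := p * p'⁻¹) (q := q'⁻¹ * q)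
      (mul_mem hp (inv_mem hp')) (mul_mem (inv_mem hq') hq) (by rw [e]; group)
      (hle' v' fun k _ ⟨a, ha, b, hb, ek⟩ =>
        ⟨a * p, mul_mem ha hp, q * b, mul_mem hq hb, by rw [ek, e]; group⟩)
    have h2 := eqv_of_minimal P hK hJ hm hv hgv (p := p'⁻¹) (q := q'⁻¹) (inv_mem hp')
      (inv_mem hq') (by group) (hle' v fun k _ h => h)
    exact eqv_trans P h1 (eqv_symm P h2)

end Cfsg.Agent.Steinberg
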