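import Cfsg.Agent.BlockAlg8.Residue
import Cfsg.Agent.Lib.BlocksCore.DefectZero
import Cfsg.Agent.Lib.BlocksCore.WeakOrth
import Mathlib.RepresentationTheory.Subrepresentation
import Mathlib.LinearAlgebra.FiniteDimensional.Lemmas

/-!
# A character of defect zero stays irreducible modulo `p`

The reduction of the idempotent of the character cuts out a module of the group algebra in
characteristic `p` all of whose nonzero invariant subspaces have dimension at least the degree.
-/

set_option autoImplicit false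
set_option linter.unusedSectionVars false

namespace Cfsg.Agent.Steinberg.Reduction

open BlocksCore BlocksDefect BlockAlg8
open scoped Classical

universe u

variable {G : Type u} [Group G] [Fintype G] {p : ℕ} {M : Ideal AlgInt} [M.IsPrime]

/-- Left translation on functions. -/
noncomputable def leftReg (k : Type*) [Field k] : Representation k G (G → k) where
  toFun a := LinearMap.funLeft k k (fun x => a⁻¹ * x)
  map_one' := by ext f x; simp [LinearMap.funLeft_apply]
  map_mul' a b := by ext f x; simp [LinearMap.funLeft_apply, mul_assoc]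

theorem leftReg_apply {k : Type*} [Field k] (a : G) (f : G → k) (x : G) :
    leftReg k a f x = f (a⁻¹ * x) := rfl

/-- The matrix of the idempotent of a character. -/
noncomputable def idemC (χ : IrrCharacter G) (x y : G) : ℂ :=
  blockCoeff ({χ} : Set (IrrCharacter G)) (y⁻¹ * x)

/-- Its reduction, as an endomorphism of the functions on the group. -/
noncomputable def proj (M : Ideal AlgInt) [M.IsPrime] (χ : IrrCharacter G) :
    (G → Res M) →ₗ[Res M] (G → Res M) :=
  Matrix.toLin' (Matrix.of fun x y => red M (idemC χ x y))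

theorem proj_apply (χ : IrrCharacter G) (f : G → Res M) (x : G) :
    proj M χ f x = ∑ y, red M (idemC χ x y) * f y := by
  simp [proj, Matrix.toLin'_apply, Matrix.mulVec, dotProduct]

theorem idemC_shift (χ : IrrCharacter G) (a x y : G) :
    idemC χ (a⁻¹ * x) y = idemC χ x (a * y) := by
  simp [idemC, mul_assoc]

theorem idemC_eq (χ : IrrCharacter G) (x y : G) :
    idemC χ x y =
      (Nat.card G : ℂ)⁻¹ * ((charDegree (χ : G → ℂ) : ℂ) * (χ : G → ℂ) (x⁻¹ * y)) := by
  rw [idemC, blockCoeff_singleton, irr_one_eq, conj_irr, mul_inv_rev, inv_inv]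

variable (hM : IsPModular p M) (χ : IrrCharacter G)
  (hd : ¬ p ∣ Nat.card G / charDegree (χ : G → ℂ))

include hM hd

theorem idemC_mem (x y : G) : MemLocalRing M (idemC χ x y) := by
  have h := (isIntClassFun_blockCoeff hM (isPBlock_blockOf χ)).2 (y⁻¹ * x)
  rwa [blockOf_eq_singleton_of_not_dvd hM χ hd] at h

theorem idemC_idem (x z : G) : ∑ y, idemC χ x y * idemC χ y z = idemC χ x z := by
  have h := congrFun (conv_blockCoeff_self ({χ} : Set (IrrCharacter G))) (z⁻¹ * x)
  rw [conv, finsum_eq_sum_of_fintype] at h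
  rw [idemC, ← h]
  refine Fintype.sum_equiv (Equiv.mulLeft z⁻¹) _ _ fun y => ?_
  rw [Equiv.coe_mulLeft, idemC, idemC, mul_comm]
  congr 2
  group

theorem proj_proj (f : G → Res M) : proj M χ (proj M χ f) = proj M χ f := by
  funext x
  simp only [proj_apply, Finset.mul_sum]
  rw [Finset.sum_comm]
  refine Finset.sum_congr rfl fun z _ => ?_
  simp only [← mul_assoc, ← Finset.sum_mul]
  congr 1
  rw [← idemC_idem hM χ hd x z, red_sum _ fun y =>
    (localRing M).mul_mem (idemC_mem hM χ hd x y) (idemC_mem hM χ hd y z)]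
  exact Finset.sum_congr rfl fun y _ =>
    (red_mul (idemC_mem hM χ hd x y) (idemC_mem hM χ hd y z)).symm

theorem finrank_range_proj :
    Module.finrank (Res M) (LinearMap.range (proj M χ)) = charDegree (χ : G → ℂ) ^ 2 := by
  have h := finrank_range_red (fun x y => idemC_mem hM χ hd x y) (idemC_idem hM χ hd)
  have h1 : ∑ x, idemC χ x x = ((charDegree (χ : G → ℂ) ^ 2 : ℕ) : ℂ) := by
    simp only [idemC_eq, inv_mul_cancel, irr_one_eq, Finset.sum_const, Finset.card_univ,
      nsmul_eq_mul, ← Nat.card_eq_fintype_card]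
    rw [← mul_assoc, mul_inv_cancel₀ (by exact_mod_cast Nat.card_pos.ne'), one_mul]
    push_cast
    ring
  rw [h1] at h
  exact Nat.cast_injective h

/-- A representation all of whose nonzero invariant subspaces have dimension at least the degree. -/
theorem exists_rep : ∃ (W : Submodule (Res M) (G → Res M))
    (hW : ∀ (g : G), ∀ f ∈ W, leftReg (Res M) g f ∈ W), W ≠ ⊥ ∧
    ∀ V : Submodule (Res M) (G → Res M), V ≤ W → V ≠ ⊥ →
      (∀ (g : G), ∀ f ∈ V, leftReg (Res M) g f ∈ V) →
      charDegree (χ : G → ℂ) ≤ Module.finrank (Res M) V := by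
  refine ⟨LinearMap.range (proj M χ), ?_, ?_, ?_⟩
  · rintro a _ ⟨f, rfl⟩
    refine ⟨leftReg (Res M) a f, funext fun x => ?_⟩
    rw [proj_apply, leftReg_apply, proj_apply]
    refine (Fintype.sum_equiv (Equiv.mulLeft a) _ _ fun y => ?_).symm
    rw [Equiv.coe_mulLeft, idemC_shift, leftReg_apply, inv_mul_cancel_left]
  · intro h
    have := finrank_range_proj hM χ hd
    rw [h, finrank_bot] at this
    have := charDegree_pos χ
    nlinarith
  intro V hV hV0 hinv
  have hc : ¬ p ∣ Nat.card G / charDegree (χ : G → ℂ) := hd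
  set c : ℕ := Nat.card G / charDegree (χ : G → ℂ) with hcdef
  have hd0 : (charDegree (χ : G → ℂ) : ℂ) ≠ 0 := by exact_mod_cast (charDegree_pos χ).ne'
  have hG0 : (Nat.card G : ℂ) ≠ 0 := by exact_mod_cast Nat.card_pos.ne'
  have hcC : (c : ℂ) = (Nat.card G : ℂ) / charDegree (χ : G → ℂ) :=
    Nat.cast_div (charDegree_dvd_card χ) hd0
  let Ψ : LinearMap.range (proj M χ) →ₗ[Res M] (V →ₗ[Res M] V) :=
    { toFun := fun f => ∑ h : G, (f : G → Res M) h • (leftReg (Res M) h).restrict (hinv h)
      map_add' := fun f f' => by simp [add_smul, Finset.sum_add_distrib]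
      map_smul' := fun a f => by simp [mul_smul, Finset.smul_sum] }
  suffices hinj : Function.Injective Ψ by
    have h := LinearMap.finrank_le_finrank_of_injective hinj
    rw [finrank_range_proj hM χ hd, Module.finrank_linearMap, ← pow_two] at h
    exact (Nat.pow_le_pow_iff_left two_ne_zero).1 h
  rw [injective_iff_map_eq_zero]
  rintro ⟨f, g0, rfl⟩ hf
  refine Subtype.ext ?_
  set f := proj M χ g0 with hfdef
  have hkill : ∀ v ∈ V, ∀ x, ∑ h, f h * v (h⁻¹ * x) = 0 := by
    intro v hv x
    have := congrArg (fun L : V →ₗ[Res M] V => ((L ⟨v, hv⟩ : V) : G → Res M) x) hf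
    simpa [Ψ, Finset.sum_apply, leftReg_apply] using this
  obtain ⟨v, hv, hv0⟩ := Submodule.exists_mem_ne_zero_of_ne_bot hV0
  obtain ⟨x0, hx0⟩ := Function.ne_iff.1 hv0
  have hvp : proj M χ v = v := by
    obtain ⟨w, rfl⟩ := hV hv
    exact proj_proj hM χ hd w
  have hχ : ∀ g, MemLocalRing M ((χ : G → ℂ) g) := fun g =>
    memLocalRing_of_isIntegral (isIntegral_irr χ g)
  have hS : ∀ h : G, ∑ g : G, v (g * h⁻¹ * g⁻¹ * x0) =
      red M ((c : ℂ) * (χ : G → ℂ) h) * v x0 := by
    intro h
    conv_rhs => rw [← hvp, proj_apply, Finset.mul_sum]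
    conv_lhs => arg 2; ext g; rw [← hvp, proj_apply]
    rw [Finset.sum_comm]
    refine Finset.sum_congr rfl fun y _ => ?_
    rw [← Finset.sum_mul, ← mul_assoc]
    congr 1
    rw [← red_mul ((localRing M).mul_mem (memLocalRing_natCast c) (hχ h)) (idemC_mem hM χ hd _ _),
      ← red_sum _ fun g => idemC_mem hM χ hd _ _]
    congr 1
    simp only [idemC_eq, ← Finset.mul_sum]
    have h1 : ∑ g : G, (χ : G → ℂ) ((g * h⁻¹ * g⁻¹ * x0)⁻¹ * y) =
        (Nat.card G : ℂ) * (χ : G → ℂ) h * (χ : G → ℂ) (x0⁻¹ * y) / (χ : G → ℂ) 1 := by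
      have hcl := CharCore.irr_isClassFunction χ
      have hcl' : ∀ a b : G, (χ : G → ℂ) (a * b) = (χ : G → ℂ) (b * a) := fun a b => by
        rw [← hcl (a * b) b]
        congr 1
        group
      rw [hcl' x0⁻¹ y, ← sum_char_conj_mul χ h (y * x0⁻¹)]
      refine Fintype.sum_equiv (Equiv.inv G) _ _ fun g => ?_
      rw [Equiv.inv_apply, inv_inv]
      rw [show (g * h⁻¹ * g⁻¹ * x0)⁻¹ * y = x0⁻¹ * (g * h * g⁻¹ * y) by group, hcl' x0⁻¹]
      congr 1
      group
    rw [h1, irr_one_eq, hcC]
    field_simp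
  have hker : ∀ a : G, ∑ h, f (a * h) * red M ((c : ℂ) * (χ : G → ℂ) h) = 0 := by
    intro a
    have : (∑ h, f (a * h) * red M ((c : ℂ) * (χ : G → ℂ) h)) * v x0 = 0 := by
      simp only [Finset.sum_mul, mul_assoc, ← hS, Finset.mul_sum]
      rw [Finset.sum_comm]
      refine Finset.sum_eq_zero fun g _ => ?_
      have h1 := hkill _ (hinv g⁻¹ v hv) (a * (g⁻¹ * x0))
      refine Eq.trans ?_ h1
      refine Fintype.sum_equiv (Equiv.mulLeft a) _ _ fun h => ?_
      rw [Equiv.coe_mulLeft, leftReg_apply]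
      congr 2
      group
    exact (mul_eq_zero.1 this).resolve_right hx0
  have hc' : red M (c : ℂ) ≠ 0 := by
    have := charP_res hM
    rw [red_natCast, Ne, CharP.cast_eq_zero_iff (Res M) p]
    exact hc
  funext x
  show f x = 0
  rw [show f x = proj M χ f x from congrFun (proj_proj hM χ hd g0).symm x, proj_apply]
  have hE : ∀ y, red M (idemC χ x y) * red M (c : ℂ) * red M (c : ℂ) =
      red M ((c : ℂ) * (χ : G → ℂ) (x⁻¹ * y)) := by
    intro y
    rw [← red_mul (idemC_mem hM χ hd x y) (memLocalRing_natCast c),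
      ← red_mul ((localRing M).mul_mem (idemC_mem hM χ hd x y) (memLocalRing_natCast c))
        (memLocalRing_natCast c)]
    congr 1
    rw [idemC_eq, hcC]
    field_simp
  have : (∑ y, red M (idemC χ x y) * f y) * (red M (c : ℂ) * red M (c : ℂ)) = 0 := by
    rw [← hker x, Finset.sum_mul]
    refine (Fintype.sum_equiv (Equiv.mulLeft x) _ _ fun h => ?_).symm
    rw [Equiv.coe_mulLeft, show red M (idemC χ x (x * h)) * f (x * h) *
      (red M (c : ℂ) * red M (c : ℂ)) = f (x * h) * (red M (idemC χ x (x * h)) * red M (c : ℂ) *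
        red M (c : ℂ)) by ring, hE, inv_mul_cancel_left]
  exact (mul_eq_zero.1 this).resolve_right (mul_ne_zero hc' hc')

end Cfsg.Agent.Steinberg.Reduction
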