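import Cfsg.Agent.Lib.Steinberg.Bound
import Cfsg.Agent.Lib.Steinberg.Reduction

/-!
# The degree of a character of defect zero of a split (B,N)-pair
-/

set_option autoImplicit false
set_option linter.unusedSectionVars false

namespace Cfsg.Agent.Steinberg

open BlocksCore BlocksDefect BlockAlg8
open scoped Classical

variable {G : Type*} [Group G] [Fintype G] {P : Cfsg.BNPair G} {p : ℕ} [hp : Fact p.Prime]
  {U : Subgroup G}

theorem degree_eq (h : Split2 P p U) (χ : IrrCharacter G)
    (hd : p ^ (Nat.card G).factorization p ∣ charDegree (χ : G → ℂ)) :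
    charDegree (χ : G → ℂ) = Nat.card U ∧ ¬ p ∣ Nat.card G / charDegree (χ : G → ℂ) := by
  have hG := Nat.card_pos (α := G)
  have hdG := charDegree_dvd_card χ
  have hU : Nat.card U ∣ charDegree (χ : G → ℂ) := by rw [h.card_U_eq]; exact hd
  have hdiv : ¬ p ∣ Nat.card G / charDegree (χ : G → ℂ) := by
    intro hp'
    exact h.not_dvd_card_div (hp'.trans (Nat.div_dvd_div_left hdG hU))
  refine ⟨Nat.dvd_antisymm ?_ hU, hdiv⟩
  obtain ⟨M, hM⟩ := BC86.exists_isPModular hp.out
  haveI := hM.2.1
  haveI := isPrime hM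
  haveI := charP_res hM
  obtain ⟨W, hW, hW0, hmin⟩ := Reduction.exists_rep hM χ hdiv
  obtain ⟨X, hXW, hX0, hXinv, hXle⟩ :=
    exists_small_invariant h (ρ := Reduction.leftReg (Res M)) W hW hW0
  have hle := (hmin X hXW hX0 hXinv).trans hXle
  exact (Nat.le_antisymm hle (Nat.le_of_dvd (charDegree_pos χ) hU)) ▸ dvd_rfl

end Cfsg.Agent.Steinberg
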