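import Cfsg.Agent.Lib.Steinberg.Coset
import Cfsg.Agent.Lib.CharCore.Basic
import Mathlib.LinearAlgebra.PID
import Mathlib.LinearAlgebra.Trace
import Mathlib.LinearAlgebra.Pi
import Mathlib.Data.Real.Basic

/-!
# The Steinberg module of a finite group with a (B,N)-pair

The functions on the cosets of `B` with vanishing sum over every coset of every minimal parabolic
subgroup; the spherical function; irreducibility; the character.
-/

set_option autoImplicit false
set_option linter.unusedSectionVars false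

namespace Cfsg.Agent.Steinberg

open Cfsg.Agent.BN
open scoped ComplexConjugate

variable {G : Type*} [Group G] [Fintype G] (P : Cfsg.BNPair G)

noncomputable instance fintypePts : Fintype (G ⧸ P.B) := Fintype.ofFinite _

/-- The spherical function as a function on the group, with real values. -/
noncomputable def phiR (g : G) : ℝ := (-1) ^ len P (rep P g) / cardC P (rep P g)

/-- The spherical function. -/
noncomputable def phi (g : G) : ℂ := (phiR P g : ℂ)

theorem phi_of_mem {g n : G} (hn : n ∈ P.N) (hg : g ∈ cell P n) :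
    phi P g = (-1) ^ len P n / cardC P n := by
  have h := rep_eqv P hn hg
  rw [phi, phiR, len_congr P h, cardC_congr P h]
  push_cast
  ring

theorem phi_one : phi P 1 = 1 := by
  rw [phi_of_mem P P.N.one_mem (self_mem_cell P 1), len_one, cardC_one]
  simp

theorem phi_mul_left {b : G} (hb : b ∈ P.B) (g : G) : phi P (b * g) = phi P g := by
  rw [phi_of_mem P (rep_mem P g) (mul_mem_cell_left P hb (mem_cell_rep P g)),
    phi_of_mem P (rep_mem P g) (mem_cell_rep P g)]

theorem phi_mul_right {b : G} (hb : b ∈ P.B) (g : G) : phi P (g * b) = phi P g := by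
  rw [phi_of_mem P (rep_mem P g) (mul_mem_cell_right P hb (mem_cell_rep P g)),
    phi_of_mem P (rep_mem P g) (mem_cell_rep P g)]

theorem natCard_cell (n : G) : Nat.card (cell P n) = cardC P n * Nat.card P.B := by
  rw [cardC, Nat.mul_comm, ← Nat.card_prod]
  have e : cell P n = (QuotientGroup.mk : G → G ⧸ P.B) ⁻¹' (sch P n) := by
    ext g
    exact (mk_mem_sch P).symm
  rw [e]
  exact Nat.card_congr (QuotientGroup.preimageMkEquivSubgroupProdSet P.B (sch P n))

theorem cardC_inv (n : G) : cardC P n⁻¹ = cardC P n := by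
  have h : Nat.card (cell P n⁻¹) = Nat.card (cell P n) := Nat.card_congr
    { toFun := fun g => ⟨(g : G)⁻¹, by have := inv_mem_cell P g.2; rwa [inv_inv] at this⟩
      invFun := fun g => ⟨(g : G)⁻¹, inv_mem_cell P g.2⟩
      left_inv := fun g => Subtype.ext (inv_inv _)
      right_inv := fun g => Subtype.ext (inv_inv _) }
  rw [natCard_cell, natCard_cell] at h
  exact Nat.eq_of_mul_eq_mul_right Nat.card_pos h

theorem phi_inv (g : G) : phi P g⁻¹ = phi P g := by
  rw [phi_of_mem P (P.N.inv_mem (rep_mem P g)) (inv_mem_cell P (mem_cell_rep P g)),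
    phi_of_mem P (rep_mem P g) (mem_cell_rep P g), len_inv P (rep_mem P g), cardC_inv]

/-- The spherical function on the cosets. -/
noncomputable def phiX (y : G ⧸ P.B) : ℂ := phi P y.out

theorem phiX_mk (g : G) : phiX P (g : G ⧸ P.B) = phi P g := by
  have h : g⁻¹ * (g : G ⧸ P.B).out ∈ P.B := QuotientGroup.eq.1 (QuotientGroup.out_eq' _).symm
  rw [phiX, ← phi_mul_right P h g, mul_inv_cancel_left]

theorem phiX_smul {b : G} (hb : b ∈ P.B) (y : G ⧸ P.B) : phiX P (b • y) = phiX P y := by
  induction y using QuotientGroup.induction_on with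
  | H g => exact (phiX_mk P (b * g)).trans ((phi_mul_left P hb g).trans (phiX_mk P g).symm)

/-- The kernel `φ(x⁻¹ y)`. -/
noncomputable def ker (x y : G ⧸ P.B) : ℂ := phi P (x.out⁻¹ * y.out)

theorem ker_mk (a b : G) : ker P (a : G ⧸ P.B) (b : G ⧸ P.B) = phi P (a⁻¹ * b) := by
  have ha : a⁻¹ * (a : G ⧸ P.B).out ∈ P.B := QuotientGroup.eq.1 (QuotientGroup.out_eq' _).symm
  have hb : b⁻¹ * (b : G ⧸ P.B).out ∈ P.B := QuotientGroup.eq.1 (QuotientGroup.out_eq' _).symm
  set u := (a : G ⧸ P.B).out with hu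
  set v := (b : G ⧸ P.B).out with hv
  rw [show ker P (a : G ⧸ P.B) (b : G ⧸ P.B) = phi P (u⁻¹ * v) from rfl,
    show u⁻¹ * v = (a⁻¹ * u)⁻¹ * (a⁻¹ * b) * (b⁻¹ * v) by group,
    phi_mul_right P hb, phi_mul_left P (inv_mem ha)]

theorem ker_smul (g : G) (x y : G ⧸ P.B) : ker P (g • x) (g • y) = ker P x y := by
  induction x using QuotientGroup.induction_on with
  | H a =>
    induction y using QuotientGroup.induction_on with
    | H b =>
      refine (ker_mk P (g * a) (g * b)).trans (Eq.trans ?_ (ker_mk P a b).symm)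
      congr 1
      group

theorem ker_eq_phiX (x y : G ⧸ P.B) : ker P x y = phiX P (x.out⁻¹ • y) := by
  conv_rhs => rw [← QuotientGroup.out_eq' y]
  exact (phiX_mk P (x.out⁻¹ * y.out)).symm

theorem ker_comm (x y : G ⧸ P.B) : ker P x y = ker P y x := by
  rw [ker, ker, ← phi_inv P (y.out⁻¹ * x.out)]
  congr 1
  group

/-- The cosets of `B` in `P_s = B ∪ B s B`. -/
noncomputable def PsF (s : G) : Finset (G ⧸ P.B) := by
  classical
  exact insert ((1 : G) : G ⧸ P.B) (sch P s).toFinset

theorem mem_PsF {s g : G} : (g : G ⧸ P.B) ∈ PsF P s ↔ g ∈ P.B ∨ g ∈ cell P s := by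
  classical
  simp only [PsF, Finset.mem_insert, Set.mem_toFinset, mk_mem_sch]
  refine or_congr_left ?_
  rw [QuotientGroup.eq]
  simp

/-- The Steinberg module. -/
noncomputable def stMod : Submodule ℂ ((G ⧸ P.B) → ℂ) where
  carrier := {f | ∀ s ∈ P.S, ∀ g : G, ∑ y ∈ PsF P s, f (g • y) = 0}
  zero_mem' := by simp
  add_mem' := fun {f f'} hf hf' s hs g => by
    simp [Finset.sum_add_distrib, hf s hs g, hf' s hs g]
  smul_mem' := fun c f hf s hs g => by
    simp [← Finset.mul_sum, hf s hs g]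

theorem sum_PsF_smul {s p : G} (hs : s ∈ P.S) (hp : p ∈ P.B ∨ p ∈ cell P s)
    (f : (G ⧸ P.B) → ℂ) : ∑ y ∈ PsF P s, f (p • y) = ∑ y ∈ PsF P s, f y := by
  refine Finset.sum_nbij' (fun y => p • y) (fun y => p⁻¹ • y) ?_ ?_
    (fun y _ => inv_smul_smul p y) (fun y _ => smul_inv_smul p y) (fun y _ => rfl)
  · intro y hy
    induction y using QuotientGroup.induction_on with
    | H g => exact (mem_PsF P).2 (mul_mem_two P hs hp ((mem_PsF P).1 hy))
  · intro y hy
    induction y using QuotientGroup.induction_on with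
    | H g => exact (mem_PsF P).2 (mul_mem_two P hs (inv_mem_two P hs hp) ((mem_PsF P).1 hy))

theorem one_not_mem_sch {s : G} (hs : s ∈ P.S) : ((1 : G) : G ⧸ P.B) ∉ sch P s := by
  rw [mk_mem_sch]
  intro h
  exact S_not_mem_B P hs (by simpa [Eqv] using eq_one_or_eqv_of_mem P hs P.N.one_mem h)

theorem sum_PsF_eq {s : G} (hs : s ∈ P.S) (f : (G ⧸ P.B) → ℂ) :
    ∑ y ∈ PsF P s, f y = f ((1 : G) : G ⧸ P.B) + ∑ y ∈ (Set.toFinite (sch P s)).toFinset, f y := by
  classical
  rw [PsF, Finset.sum_insert (by simpa using one_not_mem_sch P hs)]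
  congr 1
  exact Finset.sum_congr (by ext y; simp) fun _ _ => rfl

theorem card_sch_toFinset (s : G) :
    (Set.toFinite (sch P s)).toFinset.card = cardC P s := by
  classical
  rw [cardC, Nat.card_coe_set_eq, Set.ncard_eq_toFinset_card]

theorem smul_mk_one (g : G) : g • ((1 : G) : G ⧸ P.B) = (g : G ⧸ P.B) := by
  show ((g * 1 : G) : G ⧸ P.B) = _
  rw [mul_one]

theorem phiX_mem : phiX P ∈ stMod P := by
  intro s hs g
  have key : ∀ n ∈ P.N, ∀ a ∈ cell P n, len P n < len P (n * s) →
      ∑ y ∈ PsF P s, phiX P (a • y) = 0 := by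
    intro n hn a ha hl
    rw [sum_PsF_eq P hs]
    have hv : ∀ y ∈ (Set.toFinite (sch P s)).toFinset,
        phiX P (a • y) = (-1) ^ len P (n * s) / cardC P (n * s) := by
      intro y hy
      obtain ⟨z, hz, rfl⟩ := (Set.Finite.mem_toFinset _).1 hy
      exact (phiX_mk P (a * z)).trans (phi_of_mem P (P.N.mul_mem hn (S_mem_N P hs))
        (mul_mem_cell_right_of_len P hs hn hl.le ha hz))
    rw [Finset.sum_congr rfl hv, Finset.sum_const, card_sch_toFinset, nsmul_eq_mul,
      smul_mk_one, phiX_mk, phi_of_mem P hn ha, cardC_mul_S P hs hn hl,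
      (len_mul_S_cases P hs hn).resolve_right (by omega)]
    have h1 : (cardC P n : ℂ) ≠ 0 := by exact_mod_cast (cardC_pos P n).ne'
    have h2 : (cardC P s : ℂ) ≠ 0 := by exact_mod_cast (cardC_pos P s).ne'
    push_cast
    field_simp
    ring
  obtain ⟨n, hn, hgn⟩ := exists_cell P g
  rcases len_mul_S_cases P hs hn with h | h
  · exact key n hn g hgn (by omega)
  · have hns := P.N.mul_mem hn (S_mem_N P hs)
    have hl : len P (n * s) < len P (n * s * s) := by
      rw [len_congr P (eqv_mul_S_mul_S P hs)]; omega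
    obtain ⟨a, ha, b, hb, rfl⟩ := (mem_cell P).1 hgn
    have hp : s⁻¹ * b ∈ P.B ∨ s⁻¹ * b ∈ cell P s :=
      mul_mem_two P hs (inv_mem_two P hs (Or.inr (self_mem_cell P s))) (Or.inl hb)
    have e : ∀ y : G ⧸ P.B, (a * n * b) • y = (a * (n * s)) • ((s⁻¹ * b) • y) := fun y => by
      rw [smul_smul]; congr 1; group
    simp only [e]
    rw [sum_PsF_smul P hs hp (fun y => phiX P ((a * (n * s)) • y))]
    exact key (n * s) hns _ (mul_mem_cell_left P ha (self_mem_cell P _)) hl

/-- A `B`-invariant member of the module is a multiple of the spherical function. -/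
theorem eq_smul_phiX {f : (G ⧸ P.B) → ℂ} (hf : f ∈ stMod P)
    (hB : ∀ b ∈ P.B, ∀ y, f (b • y) = f y) (y : G ⧸ P.B) :
    f y = f ((1 : G) : G ⧸ P.B) * phiX P y := by
  have hcell : ∀ n : G, ∀ g ∈ cell P n, f (g : G ⧸ P.B) = f (n : G ⧸ P.B) := by
    intro n g hg
    obtain ⟨a, ha, b, hb, rfl⟩ := (mem_cell P).1 hg
    rw [show ((a * n * b : G) : G ⧸ P.B) = a • (n : G ⧸ P.B) from QuotientGroup.eq.2 (by
      show (a * n * b)⁻¹ * (a * n) ∈ P.B
      simp [mul_assoc, hb])]
    exact hB a ha _
  suffices ∀ k, ∀ n ∈ P.N, len P n = k →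
      f (n : G ⧸ P.B) = f ((1 : G) : G ⧸ P.B) * phi P n by
    induction y using QuotientGroup.induction_on with
    | H g =>
      obtain ⟨n, hn, hg⟩ := exists_cell P g
      rw [hcell n g hg, this _ n hn rfl, phiX_mk, phi_of_mem P hn hg,
        phi_of_mem P hn (self_mem_cell P n)]
  intro k
  induction k with
  | zero =>
    intro n hn hk
    have hB' := (len_eq_zero P hn).1 hk
    rw [hcell 1 n ((cell_one P).2 hB'), phi_of_mem P P.N.one_mem ((cell_one P).2 hB'), len_one,
      cardC_one]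
    simp
  | succ k ih =>
    intro n hn hk
    obtain ⟨s, hs, m, hm, hl, he⟩ := exists_last P hn (by omega)
    have hms := P.N.mul_mem hm (S_mem_N P hs)
    have hlm : len P m < len P (m * s) := by rw [len_congr P he]; omega
    have h := hf s hs m
    rw [sum_PsF_eq P hs] at h
    have hv : ∀ z ∈ (Set.toFinite (sch P s)).toFinset, f (m • z) = f (n : G ⧸ P.B) := by
      intro z hz
      obtain ⟨w, hw, rfl⟩ := (Set.Finite.mem_toFinset _).1 hz
      exact hcell n _ (cell_congr P he ▸
        mul_mem_cell_right_of_len P hs hm hlm.le (self_mem_cell P m) hw)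
    rw [Finset.sum_congr rfl hv, Finset.sum_const, card_sch_toFinset, smul_mk_one, nsmul_eq_mul,
      ih m hm (by omega), phi_of_mem P hm (self_mem_cell P m)] at h
    rw [phi_of_mem P hn (self_mem_cell P n), ← cardC_congr P he, cardC_mul_S P hs hm hlm,
      ← hl, pow_succ]
    have h1 : (cardC P m : ℂ) ≠ 0 := by exact_mod_cast (cardC_pos P m).ne'
    have h2 : (cardC P s : ℂ) ≠ 0 := by exact_mod_cast (cardC_pos P s).ne'
    push_cast
    field_simp at h ⊢
    linear_combination h

/-- The square norm of the spherical function. -/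
noncomputable def normSq : ℂ := ∑ y : G ⧸ P.B, phiX P y * phiX P y

theorem normSq_ne_zero : normSq P ≠ 0 := by
  have h : normSq P = ((∑ y : G ⧸ P.B, phiR P y.out * phiR P y.out : ℝ) : ℂ) := by
    simp [normSq, phiX, phi]
  rw [h, Complex.ofReal_ne_zero]
  intro h0
  have h1 := (Finset.sum_eq_zero_iff_of_nonneg fun y _ => mul_self_nonneg _).1 h0
    ((1 : G) : G ⧸ P.B) (Finset.mem_univ _)
  have h2 : phiX P ((1 : G) : G ⧸ P.B) = 1 := by rw [phiX_mk, phi_one]
  rw [mul_self_eq_zero] at h1
  simp [phiX, phi, h1] at h2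

/-- The orthogonal projection on the module. -/
noncomputable def proj : ((G ⧸ P.B) → ℂ) →ₗ[ℂ] ((G ⧸ P.B) → ℂ) where
  toFun f := fun x => (normSq P)⁻¹ * ∑ y, ker P x y * f y
  map_add' f g := by
    funext x
    simp [mul_add, Finset.sum_add_distrib]
  map_smul' c f := by
    funext x
    simp only [Pi.smul_apply, smul_eq_mul, RingHom.id_apply, Finset.mul_sum]
    exact Finset.sum_congr rfl fun y _ => by ring

theorem proj_apply (f : (G ⧸ P.B) → ℂ) (x : G ⧸ P.B) :
    proj P f x = (normSq P)⁻¹ * ∑ y, ker P x y * f y := rfl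

theorem proj_mem (f : (G ⧸ P.B) → ℂ) : proj P f ∈ stMod P := by
  intro s hs g
  simp only [proj_apply]
  rw [← Finset.mul_sum, Finset.sum_comm]
  refine mul_eq_zero_of_right _ (Finset.sum_eq_zero fun y _ => ?_)
  rw [← Finset.sum_mul]
  refine mul_eq_zero_of_left ?_ _
  have h := phiX_mem P s hs (y.out⁻¹ * g)
  refine Eq.trans (Finset.sum_congr rfl fun z _ => ?_) h
  rw [ker_comm, ker_eq_phiX, smul_smul]

theorem proj_eq_self {f : (G ⧸ P.B) → ℂ} (hf : f ∈ stMod P) : proj P f = f := by
  classical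
  funext x
  rw [proj_apply]
  have h1 : ∑ y, ker P x y * f y = ∑ z, phiX P z * f (x.out • z) := by
    refine Fintype.sum_equiv (MulAction.toPerm x.out⁻¹) _ _ fun y => ?_
    rw [MulAction.toPerm_apply, smul_inv_smul, ker_eq_phiX]
  rw [h1]
  set F : (G ⧸ P.B) → ℂ := fun z => ∑ b : P.B, f (x.out • ((b : G) • z)) with hF
  have hFm : F ∈ stMod P := by
    intro s hs g
    simp only [hF]
    rw [Finset.sum_comm]
    refine Finset.sum_eq_zero fun b _ => ?_
    have h := hf s hs (x.out * ((b : G) * g))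
    refine Eq.trans (Finset.sum_congr rfl fun z _ => ?_) h
    rw [smul_smul, smul_smul, mul_assoc]
  have hFB : ∀ b ∈ P.B, ∀ z, F (b • z) = F z := fun b hb z => by
    simp only [hF]
    refine Fintype.sum_equiv (Equiv.mulRight (⟨b, hb⟩ : P.B)) _ _ fun c => ?_
    simp [smul_smul]
  have hF1 : F ((1 : G) : G ⧸ P.B) = (Nat.card P.B : ℂ) * f x := by
    simp only [hF]
    rw [Finset.sum_congr rfl (g := fun _ => f x) fun b _ => ?_, Finset.sum_const, Finset.card_univ,
      nsmul_eq_mul, Nat.card_eq_fintype_card]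
    rw [smul_mk_one]
    conv_rhs => rw [← QuotientGroup.out_eq' x]
    exact congrArg f (QuotientGroup.eq.2 (by simp))
  have h2 : ∑ z, phiX P z * F z = (Nat.card P.B : ℂ) * ∑ z, phiX P z * f (x.out • z) := by
    simp only [hF, Finset.mul_sum]
    rw [Finset.sum_comm, Finset.sum_congr rfl (g := fun b : P.B =>
      ∑ z, phiX P z * f (x.out • z)) fun b _ => ?_, Finset.sum_const, Finset.card_univ,
      nsmul_eq_mul, Nat.card_eq_fintype_card, Finset.mul_sum]
    refine Fintype.sum_equiv (MulAction.toPerm (b : G)) _ _ fun z => ?_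
    rw [MulAction.toPerm_apply, phiX_smul P b.2]
  have h3 : ∑ z, phiX P z * F z = (Nat.card P.B : ℂ) * f x * normSq P := by
    rw [normSq, Finset.mul_sum]
    refine Finset.sum_congr rfl fun z _ => ?_
    rw [eq_smul_phiX P hFm hFB z, hF1]
    ring
  have hcard : (Nat.card P.B : ℂ) ≠ 0 := by exact_mod_cast Nat.card_pos.ne'
  rw [mul_left_cancel₀ hcard (h2.symm.trans (h3.trans (mul_assoc _ _ _)))]
  field_simp [normSq_ne_zero P]

/-- Left translation of functions on the cosets. -/
noncomputable def translate : Representation ℂ G ((G ⧸ P.B) → ℂ) where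
  toFun g := LinearMap.funLeft ℂ ℂ (fun x => g⁻¹ • x)
  map_one' := by ext f x; simp [LinearMap.funLeft_apply]
  map_mul' g h := by ext f x; simp [LinearMap.funLeft_apply, mul_smul]

theorem translate_apply (g : G) (f : (G ⧸ P.B) → ℂ) (x : G ⧸ P.B) :
    translate P g f x = f (g⁻¹ • x) := rfl

/-- The Steinberg representation. -/
noncomputable def stSub : Subrepresentation (translate P) where
  toSubmodule := stMod P
  apply_mem_toSubmodule g f hf s hs h := by
    simp only [translate_apply, smul_smul]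
    exact hf s hs (g⁻¹ * h)

/-- The Steinberg character. -/
noncomputable def stChar : G → ℂ := (stSub P).toRepresentation.character

theorem stChar_eq (g : G) : stChar P g = (normSq P)⁻¹ * ∑ x, ker P x (g • x) := by
  classical
  have hfix : ∀ f ∈ stMod P, translate P g f ∈ stMod P := fun f hf =>
    (stSub P).apply_mem_toSubmodule g hf
  set T := (translate P g).comp (proj P) with hT
  have hTm : ∀ f, T f ∈ stMod P := fun f => hfix _ (proj_mem P f)
  have h1 : (stSub P).toRepresentation g = T.restrict (fun f _ => hTm f) := by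
    refine LinearMap.ext fun f => Subtype.ext ?_
    show translate P g (f : (G ⧸ P.B) → ℂ) = translate P g (proj P f)
    rw [proj_eq_self P f.2]
  have h2 : stChar P g = LinearMap.trace ℂ _ T := by
    show LinearMap.trace ℂ _ ((stSub P).toRepresentation g) = _
    rw [h1]
    exact LinearMap.trace_restrict_eq_of_forall_mem (stMod P) T hTm
  rw [h2, LinearMap.trace_eq_matrix_trace ℂ (Pi.basisFun ℂ (G ⧸ P.B)), Matrix.trace,
    Finset.mul_sum]
  refine Fintype.sum_equiv (MulAction.toPerm g⁻¹) _ _ fun x => ?_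
  rw [Matrix.diag_apply, LinearMap.toMatrix_apply, MulAction.toPerm_apply, smul_inv_smul]
  simp [hT, translate_apply, proj_apply, Pi.single_apply]

theorem stChar_real (g : G) : conj (stChar P g) = stChar P g := by
  rw [stChar_eq, map_mul, map_inv₀, map_sum]
  simp [normSq, ker, phiX, phi, map_sum, map_mul, Complex.conj_ofReal]

instance stSub_irreducible : (stSub P).toRepresentation.IsIrreducible := by
  classical
  have h1 : (⟨phiX P, phiX_mem P⟩ : (stSub P).toSubmodule) ≠ 0 := by
    intro h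
    have := congrFun (congrArg Subtype.val h) ((1 : G) : G ⧸ P.B)
    simp [phiX_mk, phi_one] at this
  refine { exists_pair_ne := ⟨⊥, ⊤, fun h => h1 ?_⟩, eq_bot_or_eq_top := fun W => ?_ }
  · have h' := congrArg Subrepresentation.toSubmodule h
    have hmem : (⟨phiX P, phiX_mem P⟩ : (stSub P).toSubmodule) ∈
        (⊥ : Subrepresentation (stSub P).toRepresentation).toSubmodule := by
      rw [h']; exact Submodule.mem_top
    exact (Submodule.mem_bot ℂ).1 hmem
  by_cases hW : W.toSubmodule = ⊥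
  · exact Or.inl (Subrepresentation.toSubmodule_injective hW)
  refine Or.inr (Subrepresentation.toSubmodule_injective ?_)
  obtain ⟨f, hfW, hf0⟩ := Submodule.exists_mem_ne_zero_of_ne_bot hW
  have hf' : (f : (G ⧸ P.B) → ℂ) ≠ 0 := fun h => hf0 (Subtype.ext h)
  obtain ⟨x, hx⟩ : ∃ x, (f : (G ⧸ P.B) → ℂ) x ≠ 0 := Function.ne_iff.1 hf'
  set F : (stSub P).toSubmodule := ∑ b : P.B,
    (stSub P).toRepresentation (((x.out * (b : G)) : G))⁻¹ f with hF
  have hFW : F ∈ W.toSubmodule :=
    Submodule.sum_mem _ fun b _ => W.apply_mem_toSubmodule _ hfW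
  have hFval : ∀ z, (F : (G ⧸ P.B) → ℂ) z =
      ∑ b : P.B, (f : (G ⧸ P.B) → ℂ) (x.out • ((b : G) • z)) := fun z => by
    rw [hF, Submodule.coe_sum, Finset.sum_apply]
    refine Finset.sum_congr rfl fun b _ => ?_
    show (f : (G ⧸ P.B) → ℂ) (((x.out * (b : G))⁻¹)⁻¹ • z) = _
    rw [inv_inv, smul_smul]
  have hFB : ∀ b ∈ P.B, ∀ z, (F : (G ⧸ P.B) → ℂ) (b • z) = (F : (G ⧸ P.B) → ℂ) z :=
    fun b hb z => by
      rw [hFval, hFval]
      refine Fintype.sum_equiv (Equiv.mulRight (⟨b, hb⟩ : P.B)) _ _ fun c => ?_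
      simp [smul_smul]
  have hF1 : (F : (G ⧸ P.B) → ℂ) ((1 : G) : G ⧸ P.B) ≠ 0 := by
    rw [hFval, Finset.sum_congr rfl (g := fun _ => (f : (G ⧸ P.B) → ℂ) x) fun b _ => ?_,
      Finset.sum_const, Finset.card_univ, nsmul_eq_mul]
    · exact mul_ne_zero (by exact_mod_cast Fintype.card_ne_zero) hx
    · rw [smul_mk_one]
      conv_rhs => rw [← QuotientGroup.out_eq' x]
      exact congrArg _ (QuotientGroup.eq.2 (by simp))
  have hphi : (⟨phiX P, phiX_mem P⟩ : (stSub P).toSubmodule) ∈ W.toSubmodule := by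
    have e : F = (F : (G ⧸ P.B) → ℂ) ((1 : G) : G ⧸ P.B) • ⟨phiX P, phiX_mem P⟩ :=
      Subtype.ext (funext fun z => eq_smul_phiX P F.2 hFB z)
    rw [e] at hFW
    exact (W.toSubmodule.smul_mem_iff hF1).1 hFW
  refine eq_top_iff.2 fun h _ => ?_
  have e : h = ∑ y : G ⧸ P.B, ((normSq P)⁻¹ * (h : (G ⧸ P.B) → ℂ) y) •
      (stSub P).toRepresentation y.out ⟨phiX P, phiX_mem P⟩ := by
    refine Subtype.ext (funext fun z => ?_)
    rw [Submodule.coe_sum, Finset.sum_apply]
    conv_lhs => rw [← proj_eq_self P h.2, proj_apply, Finset.mul_sum]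
    refine Finset.sum_congr rfl fun y _ => ?_
    show _ = ((normSq P)⁻¹ * (h : (G ⧸ P.B) → ℂ) y) * phiX P (y.out⁻¹ • z)
    rw [← ker_eq_phiX, ker_comm]
    ring
  rw [e]
  exact Submodule.sum_mem _ fun y _ => Submodule.smul_mem _ _ (W.apply_mem_toSubmodule _ hphi)

theorem isIrrCharacter_stChar : Cfsg.IsIrrCharacter G (stChar P) :=
  CharCore.isIrrCharacter_character _

end Cfsg.Agent.Steinberg
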